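import Cfsg.Agent.S2086
import Cfsg.Agent.S2111
import Cfsg.Agent.S0252
import Cfsg.Agent.S0253
import Cfsg.Agent.SuMult50.Main

/-!
Central extensions of the rank one groups in characteristic two.
-/

set_option autoImplicit false
set_option linter.style.haveILetI false

namespace Cfsg.Agent.CISylow69

open Subgroup

/-- The part of a central kernel in the commutator subgroup is bounded by a cyclic multiplier. -/
theorem card_ker_inf_commutator_dvd {X P : Type*} [Group X] [Group P] {n : ℕ}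
    (h : Cfsg.HasCyclicSchurMultiplier P n) (σ : X →* P) (hσ : Function.Surjective σ)
    (hc : σ.ker ≤ Subgroup.center X) : Nat.card ↥(σ.ker ⊓ commutator X) ∣ n := by
  haveI := Schur.finite_of_hasSchurMultiplier h
  obtain ⟨e⟩ := Schur.nonempty_mulEquiv_mult h
  obtain ⟨π, hπ⟩ := Schur.exists_surjective_mult σ hσ hc
  refine (Subgroup.card_dvd_of_surjective π hπ).trans (dvd_of_eq ?_)
  rw [← Nat.card_congr e.toEquiv, Nat.card_congr Multiplicative.toAdd, Nat.card_zmod]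

/-- The multiplier of `PSL(2, 2^n)` is trivial, except possibly for `n = 2`, when it has order two. -/
theorem psl_multiplier {F : Type} [Field F] [Fintype F] {n : ℕ} (hn : 2 ≤ n)
    (hF : Fintype.card F = 2 ^ n) :
    Cfsg.HasCyclicSchurMultiplier (Matrix.ProjectiveSpecialLinearGroup (Fin 2) F)
      (if n = 2 then 2 else 1) := by
  by_cases h2 : n = 2
  · subst h2
    haveI : Fact (Nat.Prime 5) := ⟨by norm_num⟩
    obtain ⟨e⟩ := S0252.result (F := F) (by rw [hF]; rfl)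
    obtain ⟨e'⟩ := S0253.result (F := ZMod 5) (ZMod.card 5)
    have h := S2086.result (ZMod.card 5) 2 le_rfl (fun _ => by norm_num) (by simp)
    rw [if_pos rfl]
    exact Schur.hasSchurMultiplier_congr (e'.trans e.symm) h
  · have h4 : 8 ≤ 2 ^ n := le_trans (by norm_num : (8 : ℕ) ≤ 2 ^ 3)
      (Nat.pow_le_pow_right (by norm_num) (by omega))
    have hev : Even (2 ^ n) := (Nat.even_pow' (by omega)).2 even_two
    have h := S2086.result hF 2 le_rfl (fun _ => by omega) (by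
      simp only [Set.mem_insert_iff, Set.mem_singleton_iff, Prod.mk.injEq, not_or]
      refine ⟨by omega, fun h => ?_, by omega, by omega, by omega⟩
      rw [h.2] at hev
      exact absurd hev (by decide))
    rw [if_neg h2]
    have hg : Nat.gcd 2 (2 ^ n - 1) = 1 :=
      Nat.coprime_two_left.2 (Nat.Even.sub_odd (by omega) hev odd_one)
    rwa [hg] at h

theorem sz_multiplier {F : Type} [Field F] [Fintype F] {m : ℕ} (hm : 2 ≤ m)
    (hF : Fintype.card F = 2 ^ (2 * m + 1)) :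
    Cfsg.HasCyclicSchurMultiplier ↥(Cfsg.Lie.Sz F (2 ^ (m + 1))) 1 :=
  S2111.result hm hF

theorem psu_side {n : ℕ} (hn : 2 ≤ n) :
    ¬ ((3 : ℕ) = 3 ∧ 2 ^ n = 2) ∧ ¬ ((3 : ℕ) = 4 ∧ 2 ^ n = 2) ∧ ¬ ((3 : ℕ) = 4 ∧ 2 ^ n = 3) ∧
      ¬ ((3 : ℕ) = 6 ∧ 2 ^ n = 2) := by
  have : 4 ≤ 2 ^ n := le_trans (by norm_num : (4 : ℕ) ≤ 2 ^ 2) (Nat.pow_le_pow_right (by norm_num) hn)
  omega

theorem psu_multiplier {F : Type} [Field F] [Fintype F] {n : ℕ} (hn : 2 ≤ n)
    (hF : Fintype.card F = (2 ^ n) ^ 2) :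
    ∃ d, Odd d ∧ Cfsg.HasCyclicSchurMultiplier (Cfsg.PSU 3 F (2 ^ n)) d := by
  obtain ⟨h1, h2, h3, h4⟩ := psu_side hn
  exact ⟨Nat.gcd 3 (2 ^ n + 1), (by decide : Odd 3).of_dvd_nat (Nat.gcd_dvd_left _ _),
    SuMult50.hasCyclicSchurMultiplier_PSU hF le_rfl h1 h2 h3 h4⟩

/-- A perfect central extension of `PSU(3, 2^n)` is `PSU` or `SU`. -/
theorem psu_cover {X : Type*} [Group X] [Finite X] {F : Type} [Field F] [Fintype F] {n : ℕ}
    (hn : 2 ≤ n) (hF : Fintype.card F = (2 ^ n) ^ 2) (hX : commutator X = ⊤)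
    (σ : X →* Cfsg.PSU 3 F (2 ^ n)) (hσ : Function.Surjective σ)
    (hc : σ.ker ≤ Subgroup.center X) :
    Nonempty (X ≃* Cfsg.PSU 3 F (2 ^ n)) ∨ Nonempty (X ≃* ↥(Cfsg.SU 3 F (2 ^ n))) := by
  obtain ⟨h1, h2, h3, h4⟩ := psu_side hn
  let π : Cfsg.SU 3 F (2 ^ n) →* Cfsg.PSU 3 F (2 ^ n) := QuotientGroup.mk' _
  obtain ⟨η, hη⟩ := Schur.exists_lift_of_trivial
    ⟨Unitary.commutator_SU_eq_top hF le_rfl h1⟩
    (SuMult50.hasCyclicSchurMultiplier_SU hF le_rfl h1 h2 h3 h4) π σ hσ hc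
  have hsurj : Function.Surjective η := by
    rw [← MonoidHom.range_eq_top]
    refine CharB.PSLMult.eq_top_of_sup_center hX (eq_top_iff.2 fun x _ => ?_)
    obtain ⟨s, hs⟩ := QuotientGroup.mk'_surjective (Subgroup.center (Cfsg.SU 3 F (2 ^ n))) (σ x)
    rw [show x = η s * ((η s)⁻¹ * x) by group]
    refine Subgroup.mul_mem_sup ⟨s, rfl⟩ (hc ?_)
    rw [MonoidHom.mem_ker, map_mul, map_inv, ← MonoidHom.comp_apply, hη]
    show (π s)⁻¹ * σ x = 1
    rw [show π s = σ x from hs, inv_mul_cancel]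
  have hg : Nat.gcd 3 (2 ^ n + 1) = 1 ∨ Nat.gcd 3 (2 ^ n + 1) = 3 :=
    (Nat.dvd_prime Nat.prime_three).1 (Nat.gcd_dvd_left _ _)
  have hcardX : Nat.card X = Nat.card σ.ker * Nat.card (Cfsg.PSU 3 F (2 ^ n)) := by
    rw [← Nat.card_congr (QuotientGroup.quotientKerEquivOfSurjective σ hσ).toEquiv,
      ← Subgroup.index_eq_card, Subgroup.card_mul_index]
  have hcardS : Nat.card (Cfsg.SU 3 F (2 ^ n)) =
      Nat.gcd 3 (2 ^ n + 1) * Nat.card (Cfsg.PSU 3 F (2 ^ n)) := by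
    rw [← Unitary.card_center hF (by norm_num : 2 ≤ 3), ← Subgroup.index_eq_card,
      Subgroup.card_mul_index]
  have hdvd : Nat.card σ.ker ∣ Nat.gcd 3 (2 ^ n + 1) := by
    refine Nat.dvd_of_mul_dvd_mul_right Nat.card_pos (?_ : _ * Nat.card (Cfsg.PSU 3 F (2 ^ n)) ∣ _)
    rw [← hcardX, ← hcardS]
    exact Subgroup.card_dvd_of_surjective η hsurj
  by_cases hk : σ.ker = ⊥
  · exact Or.inl ⟨MulEquiv.ofBijective σ ⟨(MonoidHom.ker_eq_bot_iff σ).1 hk, hσ⟩⟩
  have hk1 : Nat.card σ.ker ≠ 1 := fun e => hk (Subgroup.card_eq_one.1 e)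
  have hd : Nat.card σ.ker = Nat.gcd 3 (2 ^ n + 1) := by
    rcases hg with hg | hg
    · rw [hg] at hdvd; exact absurd (Nat.dvd_one.1 hdvd) hk1
    · rw [hg] at hdvd ⊢; exact ((Nat.dvd_prime Nat.prime_three).1 hdvd).resolve_left hk1
  exact Or.inr ⟨(MulEquiv.ofBijective η ((Nat.bijective_iff_surjective_and_card η).2
    ⟨hsurj, by rw [hcardS, hcardX, hd]⟩)).symm⟩

end Cfsg.Agent.CISylow69
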