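import Cfsg.Agent.CISylow69.Basics
import Cfsg.Agent.BenderCons37.Discharge
import Cfsg.Agent.S0215
import Cfsg.Agent.S0330
import Cfsg.Agent.Lib.RankOne.SzBridge

/-!
The Sylow 2-subgroup of a group with a strongly embedded subgroup and trivial odd core, from
Bender's structure theorem and Suzuki's split rank one theorem.
-/

set_option autoImplicit false
set_option linter.style.haveILetI false

namespace Cfsg.Agent.CISylow69

open Subgroup MulAction BenderCons37 Suz27 RankOne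
open scoped commutatorElement

universe u

variable {K : Type u} [Group K] [Finite K]

/-- Properties of the Sylow 2-subgroup of a group with trivial Sylow intersections. -/
structure SylData (S : Subgroup K) : Prop where
  two : ∃ x ∈ S, ∃ y ∈ S, orderOf x = 2 ∧ orderOf y = 2 ∧ x ≠ y
  transitive : ∀ x ∈ S, ∀ y ∈ S, orderOf x = 2 → orderOf y = 2 →
    ∃ g : K, (∀ s ∈ S, g * s * g⁻¹ ∈ S) ∧ g * x * g⁻¹ = y
  central : ∀ x ∈ S, x * x = 1 → ∀ s ∈ S, s * x = x * s
  comm_of_sq : (∀ x ∈ S, x * x = 1) ∨ NonComm S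
  center_sq : NonComm S → ∀ x ∈ S, (∀ s ∈ S, s * x = x * s) → x * x = 1
  sq_central : ∀ x ∈ S, ∀ s ∈ S, s * (x * x) = x * x * s
  inv_mem_commutator : NonComm S → ∀ x ∈ S, x * x = 1 → x ∈ ⁅S, S⁆

/-- The three types of the subgroup `E` generated by the 2-elements. -/
def GenType (S E : Subgroup K) : Prop :=
  (¬ NonComm S ∧ ∃ (F : Type) (_ : Field F) (_ : Fintype F) (n : ℕ), 2 ≤ n ∧ Fintype.card F = 2 ^ n ∧
      Nonempty (E ≃* Matrix.ProjectiveSpecialLinearGroup (Fin 2) F)) ∨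
    (NonComm S ∧ ∃ (F : Type) (_ : Field F) (_ : Fintype F) (m : ℕ), 1 ≤ m ∧
      Fintype.card F = 2 ^ (2 * m + 1) ∧ Nat.card S = (2 ^ (2 * m + 1)) ^ 2 ∧
      qOf S = 2 ^ (2 * m + 1) ∧ Nonempty (E ≃* ↥(Cfsg.Lie.Sz F (2 ^ (m + 1))))) ∨
    (NonComm S ∧ ∃ (F : Type) (_ : Field F) (_ : Fintype F) (n : ℕ), 2 ≤ n ∧
      Fintype.card F = (2 ^ n) ^ 2 ∧ Nonempty (E ≃* Cfsg.PSU 3 F (2 ^ n)))

theorem exists_inv_of_ne_bot {S : Subgroup K} (hS : IsPGroup 2 S) (hne : S ≠ ⊥) :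
    ∃ x ∈ S, orderOf x = 2 := by
  haveI : Fact (Nat.Prime 2) := ⟨Nat.prime_two⟩
  haveI := (Subgroup.nontrivial_iff_ne_bot S).2 hne
  obtain ⟨x, hx⟩ := exists_prime_orderOf_dvd_card' (G := S) 2 (by
    obtain ⟨m, hm, hm'⟩ := hS.nontrivial_iff_card.1 inferInstance
    rw [hm']; exact dvd_pow_self 2 hm.ne')
  exact ⟨x, x.2, by rw [Subgroup.orderOf_coe]; exact hx⟩

/-- A group with a strongly embedded subgroup and trivial odd core has two-rank at least two. -/
theorem rankTwo_of_oddCore {H : Subgroup K} (hH : Cfsg.IsStronglyEmbedded H)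
    (hO : Cfsg.oddCore K = ⊥) : RankTwo K := by
  haveI : Fact (Nat.Prime 2) := ⟨Nat.prime_two⟩
  by_contra h
  obtain ⟨u, huH, hu⟩ := TwoFusionB.exists_inv_mem hH
  obtain ⟨P, hP⟩ := (IsPGroup.of_card (n := 1) (by rw [Nat.card_zpowers, hu, pow_one]) :
    IsPGroup 2 ↥(Subgroup.zpowers u)).exists_le_sylow
  have huP : u ∈ (P : Subgroup K) := hP (Subgroup.mem_zpowers u)
  -- all involutions of `P` equal `u`
  haveI : Nontrivial (P : Subgroup K) := ⟨⟨⟨u, huP⟩, 1, fun e =>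
    TwoFusionB.ne_one_of_inv hu (congrArg Subtype.val e)⟩⟩
  haveI := P.isPGroup'.center_nontrivial
  obtain ⟨z, hz⟩ := exists_prime_orderOf_dvd_card' (G := Subgroup.center (P : Subgroup K)) 2 (by
    obtain ⟨m, hm, hm'⟩ := (P.isPGroup'.to_subgroup (Subgroup.center (P : Subgroup K))).nontrivial_iff_card.1
      inferInstance
    rw [hm']; exact dvd_pow_self 2 hm.ne')
  rw [← Subgroup.orderOf_coe, ← Subgroup.orderOf_coe] at hz
  have huniq : ∀ x ∈ (P : Subgroup K), orderOf x = 2 → x = ((z : (P : Subgroup K)) : K) :=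
    fun x hx hx2 => no_four_of_not_rankTwo h hx2 hz
      (congrArg Subtype.val (Subgroup.mem_center_iff.1 z.2 ⟨x, hx⟩) :)
  obtain ⟨N, hNn, hNo, hN⟩ := S0215.result P u hu huP fun g hg =>
    (huniq _ hg (by rw [TwoFusionB.orderOf_conj_eq, hu])).trans (huniq u huP hu).symm
  have hN1 : N = ⊥ := by
    rw [eq_bot_iff, ← hO]
    exact Thompson.le_pPrimeCore hNn (Nat.coprime_two_right.2 hNo)
  obtain ⟨g, hg⟩ : ∃ g : K, g ∉ H := by
    by_contra hall
    push Not at hall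
    exact hH.1 ((Subgroup.eq_top_iff' H).2 hall)
  have hc : g * u * g⁻¹ = u := by
    have h1 := hN g
    rw [hN1, Subgroup.mem_bot, mul_inv_eq_one, mul_inv_eq_iff_eq_mul] at h1
    rw [← h1, mul_inv_cancel_right]
  exact Nat.not_even_iff_odd.2 (hH.2.2 g hg)
    (TwoFusionB.even_card_of_mem_inv hu ⟨huH, ⟨u, huH, hc⟩⟩)

/-- The data of `E` and its Sylow 2-subgroup. -/
theorem data_of_stronglyEmbedded (hsp : BenderSplit.{u}) {H : Subgroup K}
    (hH : Cfsg.IsStronglyEmbedded H) (hO : Cfsg.oddCore K = ⊥) :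
    ∃ S : Sylow 2 K, (S : Subgroup K) ≤ H ∧
      H ≤ Subgroup.normalizer ((S : Subgroup K) : Set K) ∧ SylData (S : Subgroup K) ∧
      (IsSimpleGroup ↥(Cfsg.pElementClosure 2 (⊤ : Subgroup K)) ∧
        commutator ↥(Cfsg.pElementClosure 2 (⊤ : Subgroup K)) = ⊤) ∧
      GenType (S : Subgroup K) (Cfsg.pElementClosure 2 (⊤ : Subgroup K)) := by
  classical
  haveI : Fact (Nat.Prime 2) := ⟨Nat.prime_two⟩
  have h2r := rankTwo_of_oddCore hH hO
  obtain ⟨Q, hQ⟩ := hsp K H hH h2r hO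
  obtain ⟨t, hR⟩ := exists_r1 hH h2r hO hQ
  haveI := hR.faithful
  obtain ⟨hQH, hQn, -, -⟩ := hQ
  obtain ⟨hQ2, hshape, hrc⟩ := Suz27.hasTypeStmt K _ _ t Q hR
  obtain ⟨-, -, -, ⟨P, hPQ⟩, -⟩ := S1119.result hR.setup
  have hPQ' : (P : Subgroup K) = Q := (P.is_maximal' hQ2 hPQ).symm
  refine ⟨P, hPQ'.le.trans hQH, ?_, ?_⟩
  · intro h hh
    rw [hPQ']
    refine Subgroup.mem_normalizer_iff.2 fun x => ⟨fun hx => hQn.conj_mem ⟨x, hQH hx⟩ hx ⟨h, hh⟩,
      fun hx => ?_⟩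
    have := hQn.conj_mem ⟨_, hQH hx⟩ hx ⟨h⁻¹, inv_mem hh⟩
    simpa [Subgroup.mem_subgroupOf, mul_assoc] using this
  rw [hPQ']
  have hfix : ∀ x ∈ Q, x • (QuotientGroup.mk 1 : K ⧸ H) = QuotientGroup.mk 1 := fun x hx =>
    TwoFusionB.smul_one_eq_iff.2 (hQH hx)
  have hisInv : ∀ x : K, orderOf x = 2 → IsInv x := fun x hx =>
    ⟨TwoFusionB.ne_one_of_inv hx, TwoFusionB.sq_eq_one_of_inv hx⟩
  -- the elementary case
  have hcases : (Nat.card Q = qOf Q ∧ ∀ x ∈ Q, x * x = 1) ∨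
      ((Nat.card Q ≠ qOf Q) ∧ NonComm Q) := by
    by_cases hq : Nat.card Q = qOf Q
    · refine Or.inl ⟨hq, fun x hx => ?_⟩
      let f : {x : K // x ∈ Q ∧ x * x = 1} → Q := fun y => ⟨y, y.2.1⟩
      have hf : Function.Injective f := fun y z e => Subtype.ext (congrArg Subtype.val e :)
      obtain ⟨y, hy⟩ := (hf.bijective_of_nat_card_le hq.le).2 ⟨x, hx⟩
      have e : (y : K) = x := congrArg Subtype.val hy
      exact e ▸ y.2.2
    · exact Or.inr ⟨hq, Suz27.notCommStmt K _ _ t Q hR hq⟩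
  have hcomm_of_sq : (∀ x ∈ Q, x * x = 1) → ¬ NonComm Q := by
    rintro h ⟨x, hx, y, hy, hne⟩
    apply hne
    calc x * y = (y * y) * (x * y) * (x * x) := by rw [h x hx, h y hy, one_mul, mul_one]
      _ = y * ((y * x) * (y * x)) * x := by group
      _ = y * x := by rw [h _ (Q.mul_mem hy hx), mul_one]
  have hdata : SylData Q := by
    have htrans : ∀ x ∈ Q, ∀ y ∈ Q, orderOf x = 2 → orderOf y = 2 →
        ∃ g : K, (∀ s ∈ Q, g * s * g⁻¹ ∈ Q) ∧ g * x * g⁻¹ = y := by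
      intro x hx y hy hx2 hy2
      obtain ⟨d, hd, he⟩ := twoStab_transitive hR.setup (hisInv x hx2) (hfix x hx) (hisInv y hy2)
        (hfix y hy)
      exact ⟨d, fun s hs => hR.setup.conj_mem d (Subgroup.mem_inf.1 hd).1 s hs, he⟩
    have hcen : ∀ x ∈ Q, x * x = 1 → ∀ s ∈ Q, s * x = x * s := by
      intro x hx hxx s hs
      by_cases hx1 : x = 1
      · simp [hx1]
      exact (invol_central hR.setup hR.rank2 ⟨hx1, hxx⟩ (hfix x hx) hs).symm
    refine ⟨?_, htrans, hcen, hcases.imp And.right And.right, fun hn x hx hc =>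
      (card_of_not_comm hR hQ2 hn).2.2 x hx fun y hy => (hc y hy).symm, ?_, ?_⟩
    · obtain ⟨x, hx, y, hy, hx2, hy2, hne, -⟩ := exists_four_mem hH h2r
      exact ⟨x, invol_mem_Q hR.setup (hisInv x hx2) (TwoFusionB.smul_one_eq_iff.2 hx),
        y, invol_mem_Q hR.setup (hisInv y hy2) (TwoFusionB.smul_one_eq_iff.2 hy), hx2, hy2, hne⟩
    · intro x hx s hs
      by_cases hn : NonComm Q
      · obtain ⟨T⟩ := (inferInstance : Nonempty (Sylow 2 ↥Q))
        have htop : (T : Subgroup ↥Q) = ⊤ :=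
          (T.is_maximal' (hQ2.of_equiv Subgroup.topEquiv.symm) le_top).symm
        have hmem : ∀ z : Q, z ∈ (T : Subgroup ↥Q) := fun z => htop ▸ Subgroup.mem_top z
        rcases S1132.result hR.setup hR.rank2 T with h | h
        · obtain ⟨a, ha, b, hb, hab⟩ := hn
          exact absurd (congrArg (fun z : (T : Subgroup ↥Q) => ((z : Q) : K))
            (h.is_comm.comm ⟨⟨a, ha⟩, hmem _⟩ ⟨⟨b, hb⟩, hmem _⟩)) hab
        · exact congrArg (fun z : (T : Subgroup ↥Q) => ((z : Q) : K))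
            (Subgroup.mem_center_iff.1 ((S1138.result h).1 ⟨⟨x, hx⟩, hmem _⟩) ⟨⟨s, hs⟩, hmem _⟩)
      · rw [show x * x = 1 from (hcases.resolve_right fun h => hn h.2).2 x hx, mul_one, one_mul]
    · intro hn x hx hxx
      by_cases hx1 : x = 1
      · exact hx1 ▸ one_mem _
      obtain ⟨a, ha, b, hb, hab⟩ := hn
      obtain ⟨z, hz, hz2⟩ := exists_inv_of_ne_bot (hQ2.to_le
        (Subgroup.commutator_le_self Q)) (fun e => hab (by
          have h1 := Subgroup.commutator_mem_commutator ha hb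
          rwa [e, Subgroup.mem_bot, commutatorElement_eq_one_iff_mul_comm] at h1))
      obtain ⟨g, hg, hgx⟩ := htrans z (Subgroup.commutator_le_self Q hz) x hx hz2
        (orderOf_eq_two hx1 hxx)
      have hmap : ⁅Q, Q⁆.map (MulAut.conj g).toMonoidHom ≤ ⁅Q, Q⁆ := by
        have hle : Q.map (MulAut.conj g).toMonoidHom ≤ Q := by
          rintro _ ⟨s, hs, rfl⟩
          exact hg s hs
        rw [Subgroup.map_commutator]
        exact Subgroup.commutator_mono hle hle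
      exact hgx ▸ hmap ⟨z, hz, rfl⟩
  refine ⟨hdata, ?_⟩
  -- the generated subgroup
  obtain ⟨L, htL, hLn, hLo, hQL, hRL, hGL⟩ := exists_gen_subgroup hR
  haveI := hLn
  have hEL : Cfsg.pElementClosure 2 (⊤ : Subgroup K) = L := by
    refine le_antisymm ((closure_le _).2 ?_) ?_
    · rintro x ⟨-, k, hk⟩
      rw [SetLike.mem_coe, ← QuotientGroup.eq_one_iff, ← orderOf_eq_one_iff]
      have h1 : orderOf (x : K ⧸ L) ∣ 2 ^ k := hk ▸ orderOf_map_dvd (QuotientGroup.mk' L) x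
      have h2 : orderOf (x : K ⧸ L) ∣ L.index := orderOf_dvd_natCard _
      exact Nat.eq_one_of_dvd_coprimes ((Nat.coprime_two_left.2 hLo).pow_left k) h1 h2
    · have hgen : Gen (⟨t, htL⟩ : L) (Q.subgroupOf L) := hGL
      have hin : ∀ x : L, x ∈ Subgroup.closure (((Q.subgroupOf L : Subgroup L) : Set L) ∪ {⟨t, htL⟩}) →
          (x : K) ∈ Cfsg.pElementClosure 2 (⊤ : Subgroup K) := by
        intro x hx
        induction hx using Subgroup.closure_induction with
        | mem y hy =>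
          refine Subgroup.subset_closure ⟨Subgroup.mem_top _, ?_⟩
          rcases hy with hy | hy
          · obtain ⟨k, hk⟩ := IsPGroup.iff_orderOf.1 hQ2 ⟨(y : K), hy⟩
            exact ⟨k, (Subgroup.orderOf_mk (y : K) hy).symm.trans hk⟩
          · rw [Set.mem_singleton_iff.1 hy]
            exact ⟨1, by rw [orderOf_eq_two hR.setup.ne_one hR.setup.mul_self, pow_one]⟩
        | one => exact one_mem _
        | mul _ _ _ _ h h' => exact mul_mem h h'
        | inv _ _ h => exact inv_mem h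
      intro x hx
      exact hin ⟨x, hx⟩ (by unfold Gen at hgen; rw [hgen]; exact Subgroup.mem_top _)
  rw [hEL]
  haveI hsimple := isSimpleGroup_of_gen hRL hGL
  have hperf : commutator L = ⊤ := by
    rcases (Subgroup.commutator_normal (⊤ : Subgroup L) ⊤).eq_bot_or_eq_top with h | h
    · exfalso
      have hc : IsMulCommutative L := ⟨⟨fun a b => by
        have h1 : ⁅a, b⁆ ∈ (⊥ : Subgroup L) :=
          h ▸ Subgroup.commutator_mem_commutator (Subgroup.mem_top a) (Subgroup.mem_top b)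
        exact commutatorElement_eq_one_iff_mul_comm.1 (Subgroup.mem_bot.1 h1)⟩⟩
      have hn : (Q.subgroupOf L).Normal := ⟨fun x hx g => by
        rw [hc.is_comm.comm g x, mul_inv_cancel_right]; exact hx⟩
      rcases hn.eq_bot_or_eq_top with h' | h'
      · obtain ⟨x, hx, -, -, hx2, -, -⟩ := hdata.two
        have hm : (⟨x, hQL hx⟩ : L) ∈ Q.subgroupOf L := hx
        rw [h', Subgroup.mem_bot] at hm
        exact TwoFusionB.ne_one_of_inv hx2 (congrArg Subtype.val hm)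
      · exact hR.setup.not_mem (hR.setup.le
          (show (⟨t, htL⟩ : L) ∈ Q.subgroupOf L from h' ▸ Subgroup.mem_top _))
    · exact h
  refine ⟨⟨hsimple, hperf⟩, ?_⟩
  have hT := Suz27.hasTypeStmt L _ _ _ _ hRL
  have hcard : Nat.card (Q.subgroupOf L) = Nat.card Q :=
    Nat.card_congr (Subgroup.subgroupOfEquivOfLe hQL).toEquiv
  have hqof : qOf (Q.subgroupOf L) = qOf Q := Nat.card_congr
    { toFun := fun x => ⟨(x.1 : K), x.2.1, congrArg Subtype.val x.2.2⟩
      invFun := fun x => ⟨⟨x.1, hQL x.2.1⟩, x.2.1, Subtype.ext x.2.2⟩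
      left_inv := fun _ => rfl
      right_inv := fun _ => rfl }
  rcases hcases with ⟨hq, hsq⟩ | ⟨hq, hn⟩
  · obtain ⟨F, iF, iT, -, ⟨n, hn, hF⟩, he⟩ := psl_case hRL hGL hT (by rw [hcard, hqof, hq])
    exact Or.inl ⟨hcomm_of_sq hsq, F, iF, iT, n, hn, hF, he⟩
  obtain ⟨x₀, hx₀, y₀, hy₀, hne₀⟩ := hn
  have hnL : ∃ x ∈ Q.subgroupOf L, ∃ y ∈ Q.subgroupOf L, x * y ≠ y * x :=
    ⟨⟨x₀, hQL hx₀⟩, hx₀, ⟨y₀, hQL hy₀⟩, hy₀, fun e => hne₀ (congrArg Subtype.val e)⟩
  rcases hshape with h | h | h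
  · exact absurd h hq
  · obtain ⟨F, iF, iT, m, hm, hF, ⟨e⟩⟩ := sz_case hRL hGL hT (by rw [hcard, hqof, h]) hnL
    set e' := e.trans (SzBridge.szEquiv hF hm).symm
    have h1 : Nat.card Q = (2 ^ (2 * m + 1)) ^ 2 := by
      rw [← (S0330.result hm hF ((P.subtype (hPQ'.le.trans hQL)).mapSurjective
        (f := e'.toMonoidHom) e'.surjective)).1]
      show _ = Nat.card ↥(((P.subtype (hPQ'.le.trans hQL) : Sylow 2 L) : Subgroup L).map e'.toMonoidHom)
      rw [Subgroup.card_map_of_injective e'.injective, Sylow.coe_subtype, hPQ', hcard]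
    exact Or.inr (Or.inl ⟨⟨x₀, hx₀, y₀, hy₀, hne₀⟩, F, iF, iT, m, hm, hF, h1,
      Nat.pow_left_injective (two_ne_zero) (h.symm.trans h1), ⟨e⟩⟩)
  · obtain ⟨n, hn, hqn⟩ := exists_qOf_eq hRL hT.1
    obtain ⟨F, iF, iT, hF⟩ := exists_field_two_pow (k := n * 2) (by omega)
    rw [pow_mul] at hF
    exact Or.inr (Or.inr ⟨⟨x₀, hx₀, y₀, hy₀, hne₀⟩, F, iF, iT, n, hn, hF,
      Suz27.psu_of_cubed hRL hGL (by rw [hcard, hqof, h]) hn hqn F hF⟩)

/-- The normaliser of a non-normal TI Sylow 2-subgroup is strongly embedded. -/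
theorem stronglyEmbedded_of_ti (hTI : ∀ S T : Sylow 2 K, S ≠ T → (S : Subgroup K) ⊓ T = ⊥)
    (S : Sylow 2 K) (hmany : ∃ T : Sylow 2 K, T ≠ S) :
    Cfsg.IsStronglyEmbedded (Subgroup.normalizer ((S : Subgroup K) : Set K)) := by
  haveI : Fact (Nat.Prime 2) := ⟨Nat.prime_two⟩
  obtain ⟨T, hT⟩ := hmany
  obtain ⟨g, hg⟩ := MulAction.exists_smul_eq K S T
  obtain ⟨x, hxS, hx2⟩ : ∃ x ∈ (S : Subgroup K), orderOf x = 2 := by
    refine exists_inv_of_ne_bot S.isPGroup' fun e => hT (sylow_eq_of_le (S := S) (T := T) ?_).symm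
    rw [e]; exact bot_le
  rw [Involution.stronglyEmbedded_iff]
  refine ⟨fun htop => hT (hg ▸ ?_), Involution.even_card_of_involution
    (Subgroup.le_normalizer hxS) hx2, fun c s hs hs2 hcs => ?_⟩
  · exact Sylow.smul_eq_iff_mem_normalizer.2
      ((htop.symm ▸ Subgroup.mem_top g : g ∈ Subgroup.normalizer ((S : Subgroup K) : Set K)))
  -- an involution of the normaliser lies in `S`
  have hin : ∀ y ∈ Subgroup.normalizer ((S : Subgroup K) : Set K), orderOf y = 2 →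
      y ∈ (S : Subgroup K) := by
    intro y hy hy2
    obtain ⟨R, hR⟩ := ((IsPGroup.of_card (n := 1) (by rw [Nat.card_zpowers, hy2, pow_one]) :
      IsPGroup 2 ↥(Subgroup.zpowers y)).to_sup_of_normal_right' S.isPGroup'
        (Subgroup.zpowers_le.2 hy)).exists_le_sylow
    exact (sylow_eq_of_le (le_sup_right.trans hR) : S = R) ▸
      hR (Subgroup.mem_sup_left (Subgroup.mem_zpowers y))
  have h1 := hin s hs hs2
  have h2 : s ∈ ((c⁻¹ • S : Sylow 2 K) : Subgroup K) := by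
    rw [Sylow.coe_subgroup_smul]
    refine ⟨c * s * c⁻¹, hin _ hcs (by rw [TwoFusionB.orderOf_conj_eq, hs2]), ?_⟩
    simp [MulAut.smul_def, mul_assoc]
  by_contra hc
  have hne : S ≠ c⁻¹ • S := fun e => hc (by
    simpa using inv_mem (Sylow.smul_eq_iff_mem_normalizer.1 e.symm))
  have := Subgroup.mem_inf.2 ⟨h1, h2⟩
  rw [hTI S _ hne, Subgroup.mem_bot] at this
  exact TwoFusionB.ne_one_of_inv hs2 this

/-- The data for groups with trivial Sylow intersections. -/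
theorem data_of_ti (hsp : BenderSplit.{u}) (hO : Cfsg.oddCore K = ⊥)
    (hTI : ∀ S T : Sylow 2 K, S ≠ T → (S : Subgroup K) ⊓ T = ⊥)
    (S : Sylow 2 K) (hmany : ∃ T : Sylow 2 K, T ≠ S) :
    SylData (S : Subgroup K) ∧
      (IsSimpleGroup ↥(Cfsg.pElementClosure 2 (⊤ : Subgroup K)) ∧
        commutator ↥(Cfsg.pElementClosure 2 (⊤ : Subgroup K)) = ⊤) ∧
      GenType (S : Subgroup K) (Cfsg.pElementClosure 2 (⊤ : Subgroup K)) := by
  obtain ⟨R, hR, hNR, hd⟩ := data_of_stronglyEmbedded hsp (stronglyEmbedded_of_ti hTI S hmany) hO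
  haveI : ((R : Subgroup K).subgroupOf (Subgroup.normalizer ((S : Subgroup K) : Set K))).Normal :=
    (Subgroup.normal_subgroupOf_iff_le_normalizer hR).2 hNR
  have : R = S := by
    obtain ⟨X, hX⟩ := (R.isPGroup'.to_sup_of_normal_right' S.isPGroup' hR).exists_le_sylow
    exact (sylow_eq_of_le (le_sup_left.trans hX) : R = X).trans
      (sylow_eq_of_le (le_sup_right.trans hX) : S = X).symm
  exact this ▸ hd

end Cfsg.Agent.CISylow69
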