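import Cfsg.Agent.CISylow69.Coprime
import Cfsg.Agent.CISylow69.TIQuot
import Cfsg.Agent.CISylow69.Stem

/-!
The centraliser of an intersection of two Sylow 2-subgroups, assuming the result in smaller groups:
the intersections inside it coincide and the quotient has trivial intersections.
-/

set_option autoImplicit false
set_option linter.style.haveILetI false

namespace Cfsg.Agent.CISylow69

open Subgroup BenderCons37 Suz27
open scoped commutatorElement

universe u

/-- Two distinct Sylow 2-subgroups meet exactly in `O_2`. -/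
def Uniform (G : Type*) [Group G] : Prop :=
  ∀ S T : Sylow 2 G, S ≠ T → (S : Subgroup G) ⊓ (T : Subgroup G) = Cfsg.pCore 2 G

/-- The statement in all groups of order less than `n`. -/
def UniformBelow (n : ℕ) : Prop :=
  ∀ (K : Type u) [Group K] [Finite K], Nat.card K < n → CI K → NA K → Cfsg.oddCore K = ⊥ → Uniform K

section General

variable {G : Type*} [Group G] [Finite G]

omit [Finite G] in
theorem mem_smul_sylow {g x : G} {S : Sylow 2 G} :
    x ∈ ((g • S : Sylow 2 G) : Subgroup G) ↔ g⁻¹ * x * g ∈ (S : Subgroup G) := by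
  rw [Sylow.coe_subgroup_smul, Subgroup.mem_pointwise_smul_iff_inv_smul_mem, ← map_inv,
    MulAut.smul_def, MulAut.conj_apply, inv_inv]

/-- The quotient by a central 2-subgroup keeps the odd core trivial. -/
theorem oddCore_quotient_central (A : Subgroup G) [A.Normal] (hA : IsPGroup 2 A)
    (hc : A ≤ Subgroup.center G) (hO : Cfsg.oddCore G = ⊥) : Cfsg.oddCore (G ⧸ A) = ⊥ := by
  set q := QuotientGroup.mk' A
  haveI : Fact (Nat.Prime 2) := ⟨Nat.prime_two⟩
  obtain ⟨k, hk⟩ := hA.exists_card_eq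
  have hodd : Odd (Nat.card (Cfsg.oddCore (G ⧸ A))) := oddCore_card_odd
  haveI : (Cfsg.oddCore (G ⧸ A)).Normal := Thompson.sSup_normal fun N hN => hN.1
  set N := (Cfsg.oddCore (G ⧸ A)).comap q with hN
  have hAN : A ≤ N := fun a ha => by
    show q a ∈ Cfsg.oddCore (G ⧸ A)
    rw [show q a = 1 from (QuotientGroup.eq_one_iff a).2 ha]; exact one_mem _
  have hidx : (A.subgroupOf N).index = Nat.card (Cfsg.oddCore (G ⧸ A)) := by
    have h1 := Thompson.card_comap_quotient A (Cfsg.oddCore (G ⧸ A))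
    have h2 := Subgroup.card_mul_index (A.subgroupOf N)
    rw [Nat.card_congr (Subgroup.subgroupOfEquivOfLe hAN).toEquiv] at h2
    exact Nat.eq_of_mul_eq_mul_left Nat.card_pos (h2.trans (h1.trans (mul_comm _ _)))
  obtain ⟨W, hW⟩ := Subgroup.exists_right_complement'_of_coprime (N := A.subgroupOf N) (by
    rw [hidx, Nat.card_congr (Subgroup.subgroupOfEquivOfLe hAN).toEquiv, hk]
    exact (Nat.coprime_two_left.2 hodd).pow_left k)
  have hWcard : Nat.card W = Nat.card (Cfsg.oddCore (G ⧸ A)) := hidx ▸ hW.symm.index_eq_card.symm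
  -- the odd order elements of `N`
  have hmem : ∀ x : N, Odd (orderOf (x : G)) → x ∈ W := by
    intro x hx
    obtain ⟨⟨⟨a, ha⟩, ⟨w, hw⟩⟩, rfl⟩ := hW.2 x
    have hcm : Commute a w := Subtype.ext ((Subgroup.mem_center_iff.1 (hc ha) (w : G)).symm)
    have haa : a ^ Nat.card (A.subgroupOf N) = 1 :=
      congrArg Subtype.val (pow_card_eq_one' (x := (⟨a, ha⟩ : A.subgroupOf N)))
    rw [Subgroup.orderOf_coe] at hx
    have h1 : (a * w) ^ Nat.card (A.subgroupOf N) ∈ W := by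
      rw [hcm.mul_pow, haa, one_mul]
      exact W.pow_mem hw _
    have hcop : (orderOf (a * w)).Coprime (Nat.card (A.subgroupOf N)) := by
      rw [Nat.card_congr (Subgroup.subgroupOfEquivOfLe hAN).toEquiv, hk]
      exact (Nat.coprime_two_right.2 hx).pow_right k
    obtain ⟨m, hm⟩ := exists_pow_eq_self_of_coprime hcop.symm
    show a * w ∈ W
    rw [← hm]
    exact W.pow_mem h1 m
  have hWn : (W.map N.subtype).Normal := by
    refine ⟨?_⟩
    rintro _ ⟨w, hw, rfl⟩ g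
    have hg : g * (w : G) * g⁻¹ ∈ N := (inferInstance : N.Normal).conj_mem _ w.2 g
    refine ⟨⟨_, hg⟩, hmem _ ?_, rfl⟩
    show Odd (orderOf (g * (w : G) * g⁻¹))
    rw [TwoFusionB.orderOf_conj_eq, Subgroup.orderOf_coe]
    exact (hWcard ▸ hodd).of_dvd_nat (W.orderOf_dvd_natCard hw)
  have hbot : Nat.card (W.map N.subtype) = 1 := by
    rw [Subgroup.card_eq_one, eq_bot_iff, ← hO]
    refine Thompson.le_pPrimeCore hWn (Nat.coprime_two_right.2 ?_)
    rwa [Subgroup.card_map_of_injective N.subtype_injective, hWcard]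
  rw [Subgroup.card_map_of_injective N.subtype_injective, hWcard, Subgroup.card_eq_one] at hbot
  exact hbot

/-- A group with central squares and centre of index eight has at most eight commutators. -/
theorem card_commutator_le_eight {P : Type*} [Group P] [Finite P]
    (hsq : ∀ x : P, x * x ∈ Subgroup.center P) (hidx : (Subgroup.center P).index = 8) :
    Nat.card (commutator P) ≤ 8 := by
  classical
  have hcc : ∀ x y : P, ⁅x, y⁆ ∈ Subgroup.center P := fun x y => by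
    rw [show ⁅x, y⁆ = x * x * ((x⁻¹ * y) * (x⁻¹ * y)) * (y⁻¹ * y⁻¹) by
      rw [commutatorElement_def]; group]
    exact mul_mem (mul_mem (hsq _) (hsq _)) (hsq _)
  have hcsq : ∀ x y : P, ⁅x, y⁆ ^ 2 = 1 := fun x y => by
    have hc := Subgroup.mem_center_iff.1 (hcc x y)
    have e : ⁅x * x, y⁆ = x * ⁅x, y⁆ * x⁻¹ * ⁅x, y⁆ := by
      simp only [commutatorElement_def]; group
    rw [hc x, mul_inv_cancel_right] at e
    rw [pow_two, ← e]
    exact commutatorElement_eq_one_iff_mul_comm.2 (Subgroup.mem_center_iff.1 (hsq x) y).symm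
  have step : ∀ X : Subgroup P, Subgroup.center P ≤ X → ∀ n, X.index ≤ 2 * n + 1 →
      ∃ a : P, (X ⊔ Subgroup.zpowers a).index ≤ n ∨ (X ⊔ Subgroup.zpowers a).index = 1 := by
    intro X _ n hn
    by_cases hX : X = ⊤
    · exact ⟨1, Or.inr (by rw [hX, top_sup_eq, Subgroup.index_top])⟩
    obtain ⟨a, ha⟩ : ∃ a, a ∉ X := by
      by_contra hall
      push Not at hall
      exact hX ((Subgroup.eq_top_iff' X).2 hall)
    refine ⟨a, Or.inl ?_⟩
    have hlt : X < X ⊔ Subgroup.zpowers a :=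
      lt_of_le_of_ne le_sup_left fun e => ha (e ▸ Subgroup.mem_sup_right (Subgroup.mem_zpowers a))
    have h1 := Subgroup.relIndex_mul_index hlt.le
    have h2 : 2 ≤ X.relIndex (X ⊔ Subgroup.zpowers a) := by
      rcases Nat.lt_or_ge (X.relIndex (X ⊔ Subgroup.zpowers a)) 2 with h | h
      · have hne : X.relIndex (X ⊔ Subgroup.zpowers a) ≠ 0 := Subgroup.index_ne_zero_of_finite
        exact absurd (Subgroup.relIndex_eq_one.1 (by omega)) (not_le_of_gt hlt)
      · exact h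
    have h3 := Nat.mul_le_mul_right (X ⊔ Subgroup.zpowers a).index h2
    omega
  obtain ⟨a, ha⟩ := step (Subgroup.center P) le_rfl 4 (by omega)
  obtain ⟨b, hb⟩ := step (Subgroup.center P ⊔ Subgroup.zpowers a) le_sup_left 2 (by omega)
  obtain ⟨c, hc⟩ := step (Subgroup.center P ⊔ Subgroup.zpowers a ⊔ Subgroup.zpowers b)
    (le_sup_of_le_left le_sup_left) 1 (by omega)
  have htop : Subgroup.center P ⊔ Subgroup.zpowers a ⊔ Subgroup.zpowers b ⊔ Subgroup.zpowers c = ⊤ := by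
    refine Subgroup.index_eq_one.1 ?_
    have := Subgroup.index_ne_zero_of_finite
      (H := Subgroup.center P ⊔ Subgroup.zpowers a ⊔ Subgroup.zpowers b ⊔ Subgroup.zpowers c)
    omega
  have hzn : ∀ {z : P}, z ∈ Subgroup.center P → (Subgroup.zpowers z).Normal := fun hz =>
    ⟨fun w hw g => by
      have : w ∈ Subgroup.center P := Subgroup.zpowers_le.2 hz hw
      rw [Subgroup.mem_center_iff.1 this g, mul_inv_cancel_right]; exact hw⟩
  haveI := hzn (hcc a c)
  haveI := hzn (hcc b c)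
  set X := Subgroup.zpowers ⁅a, b⁆ ⊔ Subgroup.zpowers ⁅a, c⁆ ⊔ Subgroup.zpowers ⁅b, c⁆ with hX
  haveI := hzn (hcc a b)
  haveI : X.Normal := inferInstance
  have hle : commutator P ≤ X := by
    let q := QuotientGroup.mk' X
    have hab : Commute (q a) (q b) := by
      rw [← commutatorElement_eq_one_iff_commute, ← map_commutatorElement]
      exact (QuotientGroup.eq_one_iff _).2
        (Subgroup.mem_sup_left (Subgroup.mem_sup_left (Subgroup.mem_zpowers _)))
    have hac : Commute (q a) (q c) := by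
      rw [← commutatorElement_eq_one_iff_commute, ← map_commutatorElement]
      exact (QuotientGroup.eq_one_iff _).2
        (Subgroup.mem_sup_left (Subgroup.mem_sup_right (Subgroup.mem_zpowers _)))
    have hbc : Commute (q b) (q c) := by
      rw [← commutatorElement_eq_one_iff_commute, ← map_commutatorElement]
      exact (QuotientGroup.eq_one_iff _).2 (Subgroup.mem_sup_right (Subgroup.mem_zpowers _))
    have hin : ∀ d : P, Commute (q d) (q a) → Commute (q d) (q b) → Commute (q d) (q c) →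
        ∀ y, Commute (q d) (q y) := by
      intro d h₁ h₂ h₃ y
      have : (⊤ : Subgroup P) ≤ (Subgroup.centralizer {q d}).comap q := by
        rw [← htop]
        refine sup_le (sup_le (sup_le (fun z hz => ?_) ?_) ?_) ?_
        · show q z ∈ Subgroup.centralizer {q d}
          exact Subgroup.mem_centralizer_singleton_iff.2
            (show q z * q d = q d * q z by rw [← map_mul, ← map_mul, Subgroup.mem_center_iff.1 hz d])
        all_goals refine Subgroup.zpowers_le.2 (Subgroup.mem_centralizer_singleton_iff.2 ?_)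
        · exact h₁.eq.symm
        · exact h₂.eq.symm
        · exact h₃.eq.symm
      exact (Subgroup.mem_centralizer_singleton_iff.1 (this (Subgroup.mem_top y))).symm
    rw [commutator_def, Subgroup.commutator_le]
    intro x _ y _
    refine (QuotientGroup.eq_one_iff _).1 ?_
    show q ⁅x, y⁆ = 1
    rw [map_commutatorElement, commutatorElement_eq_one_iff_commute]
    exact hin x (hin a (Commute.refl _) hab hac x).symm (hin b hab.symm (Commute.refl _) hbc x).symm
      (hin c hac.symm hbc.symm (Commute.refl _) x).symm y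
  have hz2 : ∀ x y : P, Nat.card (Subgroup.zpowers ⁅x, y⁆) ≤ 2 := fun x y => by
    rw [Nat.card_zpowers]; exact Nat.le_of_dvd two_pos (orderOf_dvd_of_pow_eq_one (hcsq x y))
  have h1 := Nat.le_of_dvd (Nat.mul_pos Nat.card_pos Nat.card_pos)
    (Thompson.card_sup_dvd_mul (Subgroup.zpowers ⁅a, b⁆) (Subgroup.zpowers ⁅a, c⁆))
  have h2 := Nat.le_of_dvd (Nat.mul_pos Nat.card_pos Nat.card_pos)
    (Thompson.card_sup_dvd_mul (Subgroup.zpowers ⁅a, b⁆ ⊔ Subgroup.zpowers ⁅a, c⁆)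
      (Subgroup.zpowers ⁅b, c⁆))
  refine (Subgroup.card_le_of_le hle).trans (h2.trans ?_)
  calc _ ≤ (2 * 2) * 2 := Nat.mul_le_mul (h1.trans (Nat.mul_le_mul (hz2 a b) (hz2 a c))) (hz2 b c)
    _ = 8 := rfl

/-- When the image has order 64 and eight elements of square one, the kernel meets the commutator
subgroup trivially. -/
theorem eight_case {R K : Type*} [Group R] [Finite R] [Group K] [Finite K] (g : R →* K)
    {P : Subgroup K} (hr : g.range = P) (hd : SylData P) (hn : NonComm P) (hcard : Nat.card P = 64)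
    (hq : qOf P = 8) (hsq1 : ∀ y : R, g y * g y = 1 → y ∈ Subgroup.center R) :
    ∀ x ∈ commutator R, g x = 1 → x = 1 := by
  classical
  have hgP : ∀ y : R, g y ∈ P := fun y => hr ▸ ⟨y, rfl⟩
  have hcenP : ∀ y : R, y ∈ Subgroup.center R → g y * g y = 1 := fun y hy =>
    hd.center_sq hn _ (hgP y) fun p hp => by
      obtain ⟨z, rfl⟩ : p ∈ g.range := hr.symm ▸ hp
      rw [← map_mul, ← map_mul, Subgroup.mem_center_iff.1 hy z]
  have hsq : ∀ y : R, y * y ∈ Subgroup.center R := fun y => hsq1 _ (by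
    rw [map_mul]
    exact hd.center_sq hn _ (P.mul_mem (hgP y) (hgP y)) fun p hp => hd.sq_central _ (hgP y) p hp)
  -- the index of the centre
  let W : Subgroup K :=
    { carrier := {v | v ∈ P ∧ v * v = 1}
      one_mem' := ⟨P.one_mem, one_mul 1⟩
      mul_mem' := fun {v w} hv hw => ⟨P.mul_mem hv.1 hw.1, by
        calc v * w * (v * w) = v * (w * v) * w := by group
          _ = v * (v * w) * w := by rw [hd.central v hv.1 hv.2 w hw.1]
          _ = (v * v) * (w * w) := by group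
          _ = 1 := by rw [hv.2, hw.2, one_mul]⟩
      inv_mem' := fun {v} hv => ⟨P.inv_mem hv.1, by
        rw [← mul_inv_rev, hv.2, inv_one]⟩ }
  have hW : Nat.card W = 8 := by
    rw [← hq]; exact Nat.card_congr (Equiv.refl _)
  have hWP : W ≤ P := fun v hv => hv.1
  have hidx : (Subgroup.center R).index = 8 := by
    have e : Subgroup.center R = W.comap g := by
      ext y
      exact ⟨fun hy => ⟨hgP y, hcenP y hy⟩, fun hy => hsq1 y hy.2⟩
    rw [e, Subgroup.index_comap, hr]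
    have h1 := Subgroup.card_mul_index (W.subgroupOf P)
    rw [Nat.card_congr (Subgroup.subgroupOfEquivOfLe hWP).toEquiv, hW, hcard] at h1
    show (W.subgroupOf P).index = 8
    omega
  have h8 : 8 ≤ Nat.card ↥((commutator R).map g) := by
    rw [← hW]
    refine Subgroup.card_le_of_le fun v hv => ?_
    rw [_root_.commutator_def, Subgroup.map_commutator, ← MonoidHom.range_eq_map, hr]
    exact hd.inv_mem_commutator hn v hv.1 hv.2
  let φ : commutator R → (commutator R).map g := fun y => ⟨g y, y, y.2, rfl⟩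
  have hφ : Function.Surjective φ := by
    rintro ⟨_, y, hy, rfl⟩
    exact ⟨⟨y, hy⟩, rfl⟩
  have hinj := (hφ.bijective_of_nat_card_le ((card_commutator_le_eight hsq hidx).trans h8)).1
  intro x hx hgx
  have h1 : φ ⟨x, hx⟩ = φ 1 := Subtype.ext (hgx.trans (map_one g).symm)
  exact congrArg Subtype.val (hinj h1)

end General

section Centralizer

variable {H : Type u} [Group H] [Finite H]

/-- A subgroup containing two distinct Sylow 2-subgroups, modulo its odd core. -/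
theorem mem_of_image_mem (hci : CI H) (hna : NA H) (hO : Cfsg.oddCore H = ⊥) {C : Subgroup H}
    {S T : Sylow 2 H} (hS : (S : Subgroup H) ≤ C) (hT : (T : Subgroup H) ≤ C) {x : ↥C}
    (hx : (x : H) ∈ (T : Subgroup H))
    (hm : QuotientGroup.mk' (Cfsg.oddCore ↥C) x ∈
      ((S : Subgroup H).subgroupOf C).map (QuotientGroup.mk' (Cfsg.oddCore ↥C))) :
    (x : H) ∈ (S : Subgroup H) := by
  obtain ⟨y, hy, e⟩ := hm
  obtain ⟨n, hn, hxn⟩ := exists_conj_of_mem_map (QuotientGroup.mk' (Cfsg.oddCore ↥C))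
    (S := T.subtype hT) (T := S.subtype hS) hx hy e.symm
  rw [QuotientGroup.ker_mk'] at hn
  have hx' : (n : H)⁻¹ * x * n ∈ (S : Subgroup H) :=
    (mem_smul_sylow.1 hxn : n⁻¹ * x * n ∈ ((S.subtype hS : Sylow 2 ↥C) : Subgroup ↥C))
  have hcen := centralizes_of_oddCore hci hO (hna S)
    (W := (Cfsg.oddCore ↥C).map C.subtype)
    (by rw [Subgroup.card_map_of_injective C.subtype_injective]; exact oddCore_card_odd)
    (by
      rintro s hs _ ⟨w, hw, rfl⟩
      exact ⟨⟨s, hS hs⟩ * w * ⟨s, hS hs⟩⁻¹,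
        (inferInstance : (Cfsg.oddCore ↥C).Normal).conj_mem w hw _, rfl⟩)
    _ hx' n ⟨n, hn, rfl⟩
  have e2 : (x : H) = (n : H)⁻¹ * x * n := by
    calc (x : H) = ((n : H) * ((n : H)⁻¹ * x * n)) * (n : H)⁻¹ := by group
      _ = ((n : H)⁻¹ * x * n * n) * (n : H)⁻¹ := by rw [← hcen]
      _ = _ := by group
  exact e2.symm ▸ hx'

/-- In a proper subgroup the intersection is given by `O_2` of the quotient by the odd core. -/
theorem mem_inf_iff (hb : UniformBelow.{u} (Nat.card H)) (hci : CI H) (hna : NA H)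
    (hO : Cfsg.oddCore H = ⊥) {C : Subgroup H} (hC : C ≠ ⊤) {S T : Sylow 2 H}
    (hS : (S : Subgroup H) ≤ C) (hT : (T : Subgroup H) ≤ C) (hne : S ≠ T) (x : ↥C) :
    (x : H) ∈ (S : Subgroup H) ⊓ (T : Subgroup H) ↔ (x : H) ∈ (S : Subgroup H) ∧
      QuotientGroup.mk' (Cfsg.oddCore ↥C) x ∈ Cfsg.pCore 2 (↥C ⧸ Cfsg.oddCore ↥C) := by
  haveI : Fact (Nat.Prime 2) := ⟨Nat.prime_two⟩
  set π := QuotientGroup.mk' (Cfsg.oddCore ↥C) with hπ
  have hk : Odd (Nat.card π.ker) := by rw [hπ, QuotientGroup.ker_mk']; exact oddCore_card_odd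
  have hsurj : Function.Surjective π := QuotientGroup.mk'_surjective _
  have hlt : Nat.card (↥C ⧸ Cfsg.oddCore ↥C) < Nat.card H := by
    refine lt_of_le_of_lt (Nat.le_of_dvd Nat.card_pos (Subgroup.card_quotient_dvd_card _))
      (lt_of_le_of_ne (Subgroup.card_le_card_group C) fun e => hC ?_)
    exact Subgroup.eq_top_of_card_eq C e
  have hu := hb _ hlt ((hci.subgroup C).map π hsurj hk) ((hna.subgroup hS).map π hsurj hk)
    BenderCons37.oddCore_quotient ((S.subtype hS).mapSurjective hsurj)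
    ((T.subtype hT).mapSurjective hsurj) (fun e => hne (sylow_eq_of_le fun y hy => ?_))
  · constructor
    · rintro ⟨h1, h2⟩
      refine ⟨h1, ?_⟩
      rw [← hu]
      exact ⟨⟨x, h1, rfl⟩, ⟨x, h2, rfl⟩⟩
    · rintro ⟨h1, h2⟩
      rw [← hu] at h2
      exact ⟨h1, mem_of_image_mem hci hna hO hT hS h1 h2.2⟩
  · refine mem_of_image_mem hci hna hO hT hS (x := ⟨y, hS hy⟩) hy ?_
    have hm : π ⟨y, hS hy⟩ ∈
        (((S.subtype hS).mapSurjective hsurj : Sylow 2 _) : Subgroup _) := ⟨_, hy, rfl⟩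
    rw [e] at hm
    exact hm

/-- In a proper subgroup all intersections are equal. -/
theorem inf_eq_of_proper (hb : UniformBelow.{u} (Nat.card H)) (hci : CI H) (hna : NA H)
    (hO : Cfsg.oddCore H = ⊥) {C : Subgroup H} (hC : C ≠ ⊤) {S T S' T' : Sylow 2 H}
    (hS : (S : Subgroup H) ≤ C) (hT : (T : Subgroup H) ≤ C) (hS' : (S' : Subgroup H) ≤ C)
    (hT' : (T' : Subgroup H) ≤ C) (hne : S ≠ T) (hne' : S' ≠ T') :
    (S : Subgroup H) ⊓ (T : Subgroup H) = (S' : Subgroup H) ⊓ (T' : Subgroup H) := by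
  haveI : Fact (Nat.Prime 2) := ⟨Nat.prime_two⟩
  have key : ∀ {S T S' T' : Sylow 2 H}, (S : Subgroup H) ≤ C → (T : Subgroup H) ≤ C →
      (S' : Subgroup H) ≤ C → (T' : Subgroup H) ≤ C → S ≠ T → S' ≠ T' →
      (S : Subgroup H) ⊓ (T : Subgroup H) ≤ (S' : Subgroup H) ⊓ (T' : Subgroup H) := by
    intro S T S' T' hS hT hS' hT' hne hne' x hx
    obtain ⟨h1, h2⟩ := (mem_inf_iff hb hci hna hO hC hS hT hne ⟨x, hS hx.1⟩).1 hx
    have hS'x : x ∈ (S' : Subgroup H) := mem_of_image_mem hci hna hO hS' hS (x := ⟨x, hS hx.1⟩) h1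
      ((Thompson.pCore_le_sylow ((S'.subtype hS').mapSurjective
        (QuotientGroup.mk'_surjective _))) h2)
    exact (mem_inf_iff hb hci hna hO hC hS' hT' hne' ⟨x, hS hx.1⟩).2 ⟨hS'x, h2⟩
  exact le_antisymm (key hS hT hS' hT' hne hne') (key hS' hT' hS hT hne' hne)

/-- `Z(S)` is the intersection, or `S` has class two, `Z(S) = (S ∩ T) S'` and the intersection
meets `S'` trivially. -/
def Kind (S : Subgroup H) (D : Subgroup H) : Prop :=
  (∀ z ∈ S, (∀ s ∈ S, s * z = z * s) → z ∈ D) ∨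
    ((∀ c ∈ ⁅S, S⁆, ∀ s ∈ S, s * c = c * s) ∧
      (∀ z ∈ S, (∀ s ∈ S, s * z = z * s) → ∃ d ∈ D, ∃ c ∈ ⁅S, S⁆, z = d * c) ∧
      D ⊓ ⁅S, S⁆ = ⊥)

set_option maxHeartbeats 1000000 in
/-- The analysis of `C(D)` for an intersection `D` outside the centre of the group. -/
theorem centralizer_inf (hsp : BenderSplit.{u}) (hb : UniformBelow.{u} (Nat.card H)) (hci : CI H)
    (hna : NA H) (hO : Cfsg.oddCore H = ⊥) {S T : Sylow 2 H} (hne : S ≠ T)
    (hC : Subgroup.centralizer (((S : Subgroup H) ⊓ (T : Subgroup H) : Subgroup H) : Set H) ≠ ⊤) :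
    (∀ z ∈ (S : Subgroup H), (∀ s ∈ (S : Subgroup H), s * z = z * s) →
      (∀ g ∈ Subgroup.centralizer (((S : Subgroup H) ⊓ (T : Subgroup H) : Subgroup H) : Set H),
        (∀ s ∈ (S : Subgroup H), g * s * g⁻¹ ∈ (S : Subgroup H)) → g * z * g⁻¹ = z) →
      z ∈ (S : Subgroup H) ⊓ (T : Subgroup H)) ∧
      Kind (S : Subgroup H) ((S : Subgroup H) ⊓ (T : Subgroup H)) := by
  classical
  haveI : Fact (Nat.Prime 2) := ⟨Nat.prime_two⟩
  set D := (S : Subgroup H) ⊓ (T : Subgroup H) with hD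
  set C := Subgroup.centralizer (D : Set H) with hCdef
  have hSC : (S : Subgroup H) ≤ C := fun s hs =>
    Subgroup.mem_centralizer_iff.2 fun d hd => (hci S T hne d hd.1 hd.2 s hs).symm
  have hTC : (T : Subgroup H) ≤ C := fun s hs =>
    Subgroup.mem_centralizer_iff.2 fun d hd => (hci T S hne.symm d hd.2 hd.1 s hs).symm
  set π := QuotientGroup.mk' (Cfsg.oddCore ↥C) with hπ
  have hπk : Odd (Nat.card π.ker) := by rw [hπ, QuotientGroup.ker_mk']; exact oddCore_card_odd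
  have hπs : Function.Surjective π := QuotientGroup.mk'_surjective _
  set A := Cfsg.pCore 2 (↥C ⧸ Cfsg.oddCore ↥C) with hA
  have hu : Uniform (↥C ⧸ Cfsg.oddCore ↥C) := hb _ (lt_of_le_of_lt
    (Nat.le_of_dvd Nat.card_pos (Subgroup.card_quotient_dvd_card _))
    (lt_of_le_of_ne (Subgroup.card_le_card_group C) fun e => hC (Subgroup.eq_top_of_card_eq C e)))
    ((hci.subgroup C).map π hπs hπk) ((hna.subgroup hSC).map π hπs hπk) BenderCons37.oddCore_quotient
  have hmem := mem_inf_iff hb hci hna hO hC hSC hTC hne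
  -- `O_2` is the image of `D`, so central
  have hAc : A ≤ Subgroup.center (↥C ⧸ Cfsg.oddCore ↥C) := by
    intro a ha
    obtain ⟨x, hx, rfl⟩ : a ∈ (((S.subtype hSC).mapSurjective hπs : Sylow 2 _) : Subgroup _) :=
      Thompson.pCore_le_sylow _ ha
    have hxD : (x : H) ∈ D := (hmem x).2 ⟨hx, ha⟩
    refine Subgroup.mem_center_iff.2 fun g => ?_
    obtain ⟨g, rfl⟩ := hπs g
    rw [← map_mul, ← map_mul]
    exact congrArg π (Subtype.ext (Subgroup.mem_centralizer_iff.1 g.2 _ hxD).symm)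
  haveI : A.Normal := by rw [hA]; infer_instance
  set q := QuotientGroup.mk' A with hq
  have hqs : Function.Surjective q := QuotientGroup.mk'_surjective _
  set f := q.comp π with hf
  have hfs : Function.Surjective f := hqs.comp hπs
  have hA2 : IsPGroup 2 A := Thompson.isPGroup_pCore
  have hOK : Cfsg.oddCore ((↥C ⧸ Cfsg.oddCore ↥C) ⧸ A) = ⊥ :=
    oddCore_quotient_central A hA2 hAc BenderCons37.oddCore_quotient
  have hTI : ∀ P P' : Sylow 2 ((↥C ⧸ Cfsg.oddCore ↥C) ⧸ A), P ≠ P' →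
      (P : Subgroup ((↥C ⧸ Cfsg.oddCore ↥C) ⧸ A)) ⊓ P' = ⊥ := by
    intro P P' hPP
    obtain ⟨R, hR⟩ := exists_sylow_map q hqs P
    obtain ⟨R', hR'⟩ := exists_sylow_map q hqs P'
    refine (Subgroup.eq_bot_iff_forall _).2 fun k hk => ?_
    obtain ⟨hk1, hk2⟩ := Subgroup.mem_inf.1 hk
    rw [hR] at hk1
    rw [hR'] at hk2
    obtain ⟨r, hr, rfl⟩ := hk1
    obtain ⟨r', hr', e⟩ := hk2
    have hrR' : r ∈ (R' : Subgroup (↥C ⧸ Cfsg.oddCore ↥C)) := by
      have h1 : r'⁻¹ * r ∈ A := QuotientGroup.eq.1 e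
      simpa using mul_mem hr' (Thompson.pCore_le_sylow R' h1)
    have hrA : r ∈ A := by
      rw [hA, ← hu R R' fun e' => hPP (Sylow.ext (by rw [hR, hR', e']))]
      exact ⟨hr, hrR'⟩
    exact (QuotientGroup.eq_one_iff r).2 hrA
  set P := (S.subtype hSC).mapSurjective hfs with hP
  set P' := (T.subtype hTC).mapSurjective hfs with hP'
  have hfS : ∀ s : ↥C, (s : H) ∈ (S : Subgroup H) →
      f s ∈ (P : Subgroup ((↥C ⧸ Cfsg.oddCore ↥C) ⧸ A)) := fun s hs => ⟨s, hs, rfl⟩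
  -- a 2-element mapped into `P` lies in `S`
  have hback : ∀ (R : Sylow 2 H), (R : Subgroup H) ≤ C → ∀ x : ↥C, (x : H) ∈ (R : Subgroup H) →
      f x ∈ (P : Subgroup ((↥C ⧸ Cfsg.oddCore ↥C) ⧸ A)) → (x : H) ∈ (S : Subgroup H) := by
    rintro R hR x hx ⟨y, hy, e⟩
    refine mem_of_image_mem hci hna hO hSC hR hx ?_
    have h1 : (π y)⁻¹ * π x ∈ A := QuotientGroup.eq.1 e
    have h2 : π y ∈ (((S.subtype hSC).mapSurjective hπs : Sylow 2 _) : Subgroup _) := ⟨y, hy, rfl⟩
    have h3 := mul_mem h2 (Thompson.pCore_le_sylow ((S.subtype hSC).mapSurjective hπs) h1)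
    rw [mul_inv_cancel_left] at h3
    exact h3
  have hker : ∀ x : ↥C, (x : H) ∈ (S : Subgroup H) → (f x = 1 ↔ (x : H) ∈ D) := fun x hx =>
    (QuotientGroup.eq_one_iff (π x)).trans ⟨fun h => (hmem x).2 ⟨hx, h⟩, fun h => ((hmem x).1 h).2⟩
  have hmany : P' ≠ P := fun e => hne (sylow_eq_of_le (S := T) (T := S) fun y hy => by
    refine hback T hTC ⟨y, hTC hy⟩ hy ?_
    rw [← e]; exact ⟨_, hy, rfl⟩).symm
  obtain ⟨hd, ⟨-, -⟩, htype⟩ := data_of_ti hsp hOK hTI P ⟨P', hmany⟩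
  -- lifting elements normalising `P`
  have hlift : ∀ g, (∀ s ∈ (P : Subgroup ((↥C ⧸ Cfsg.oddCore ↥C) ⧸ A)), g * s * g⁻¹ ∈
      (P : Subgroup ((↥C ⧸ Cfsg.oddCore ↥C) ⧸ A))) →
      ∃ c : ↥C, f c = g ∧ ∀ s ∈ (S : Subgroup H), (c : H) * s * (c : H)⁻¹ ∈ (S : Subgroup H) := by
    intro g hg
    obtain ⟨c, rfl⟩ := hfs g
    refine ⟨c, rfl, fun s hs => hback ((c : H) • S) ?_ (c * ⟨s, hSC hs⟩ * c⁻¹) ?_ ?_⟩
    · intro y hy
      have := mem_smul_sylow.1 hy
      have h' := C.mul_mem (C.mul_mem c.2 (hSC this)) (C.inv_mem c.2)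
      simpa [mul_assoc] using h'
    · refine mem_smul_sylow.2 ?_
      simpa [mul_assoc] using hs
    · rw [map_mul, map_mul, map_inv]
      exact hg _ (hfS _ hs)
  have hcen : ∀ z : ↥C, (∀ s ∈ (S : Subgroup H), s * (z : H) = z * s) →
      ∀ p ∈ (P : Subgroup ((↥C ⧸ Cfsg.oddCore ↥C) ⧸ A)), p * f z = f z * p := by
    rintro z hz _ ⟨s, hs, rfl⟩
    rw [← map_mul, ← map_mul]
    exact congrArg f (Subtype.ext (hz s hs))
  refine ⟨fun z hz hzc hzfix => ?_, ?_⟩
  · by_contra hzD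
    have hne1 : f ⟨z, hSC hz⟩ ≠ 1 := fun e => hzD ((hker _ hz).1 e)
    obtain ⟨w, hw, hw2⟩ := exists_inv_of_ne_bot (P.isPGroup'.to_le (Subgroup.zpowers_le.2 (hfS _ hz)))
      (fun e => hne1 (Subgroup.zpowers_eq_bot.1 e))
    obtain ⟨i, rfl⟩ := Subgroup.mem_zpowers_iff.1 hw
    obtain ⟨x, hx, y, hy, hx2, hy2, hxy⟩ := hd.two
    have hwP := Subgroup.zpow_mem _ (hfS ⟨z, hSC hz⟩ hz) i
    have hall : ∀ v ∈ (P : Subgroup ((↥C ⧸ Cfsg.oddCore ↥C) ⧸ A)), orderOf v = 2 →
        v = f ⟨z, hSC hz⟩ ^ i := by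
      intro v hv hv2
      obtain ⟨g, hg, hgv⟩ := hd.transitive _ hwP v hv hw2 hv2
      obtain ⟨c, rfl, hcS⟩ := hlift g hg
      rw [← hgv, ← conj_zpow, ← map_inv f c, ← map_mul, ← map_mul]
      congr 2
      exact Subtype.ext (hzfix c c.2 hcS)
    exact hxy ((hall x hx hx2).trans (hall y hy hy2).symm)
  by_cases hkind : ∀ z ∈ (S : Subgroup H), (∀ s ∈ (S : Subgroup H), s * z = z * s) → z ∈ D
  · exact Or.inl hkind
  push Not at hkind
  obtain ⟨z₀, hz₀, hz₀c, hz₀D⟩ := hkind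
  obtain ⟨w, hw, hw2⟩ := exists_inv_of_ne_bot (P.isPGroup'.to_le (Subgroup.zpowers_le.2 (hfS ⟨z₀, hSC hz₀⟩ hz₀)))
    (fun e => hz₀D ((hker _ hz₀).1 (Subgroup.zpowers_eq_bot.1 e)))
  obtain ⟨i, rfl⟩ := Subgroup.mem_zpowers_iff.1 hw
  have hwP := Subgroup.zpow_mem _ (hfS ⟨z₀, hSC hz₀⟩ hz₀) i
  set w₀ : ↥C := ⟨z₀, hSC hz₀⟩ ^ i with hw₀
  have hw₀S : (w₀ : H) ∈ (S : Subgroup H) := by
    rw [hw₀, Subgroup.coe_zpow]; exact Subgroup.zpow_mem _ hz₀ i
  have hw₀c : ∀ s ∈ (S : Subgroup H), s * (w₀ : H) = w₀ * s := fun s hs => by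
    rw [hw₀, Subgroup.coe_zpow]; exact (Commute.zpow_right (hz₀c s hs) i).eq
  have hDc : ∀ d ∈ D, ∀ s ∈ (S : Subgroup H), s * d = d * s := fun d hd s hs =>
    hci S T hne d hd.1 hd.2 s hs
  -- elements whose image has square one are central
  have hsq1 : ∀ x : ↥C, (x : H) ∈ (S : Subgroup H) → f x * f x = 1 →
      ∀ s ∈ (S : Subgroup H), s * (x : H) = x * s := by
    intro x hx hxx
    by_cases hx1 : f x = 1
    · exact hDc _ ((hker x hx).1 hx1)
    obtain ⟨g, hg, hgx⟩ := hd.transitive _ hwP (f x) (hfS x hx) hw2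
      (BenderCons37.orderOf_eq_two hx1 hxx)
    obtain ⟨c, rfl, hcS⟩ := hlift g hg
    rw [← map_zpow, ← hw₀, ← map_inv, ← map_mul, ← map_mul] at hgx
    set v : ↥C := c * w₀ * c⁻¹ with hv
    have hvS : (v : H) ∈ (S : Subgroup H) := hcS _ hw₀S
    have hdD : (v : H)⁻¹ * x ∈ D := by
      have := (hker (v⁻¹ * x) (by
        show (v : H)⁻¹ * x ∈ (S : Subgroup H)
        exact mul_mem (inv_mem hvS) hx)).1 (by rw [map_mul, map_inv, hgx, inv_mul_cancel])
      exact this
    intro s hs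
    have hvc : s * (v : H) = v * s := by
      have hcinv : ∀ s ∈ (S : Subgroup H), (c : H)⁻¹ * s * c ∈ (S : Subgroup H) := by
        intro s hs
        have hmap : (S : Subgroup H).map (MulAut.conj (c : H)).toMonoidHom = (S : Subgroup H) := by
          refine Subgroup.eq_of_le_of_card_ge ?_ (le_of_eq ?_)
          · rintro _ ⟨y, hy, rfl⟩; exact hcS y hy
          · rw [Subgroup.card_map_of_injective (MulAut.conj (c : H)).injective]
        rw [← hmap] at hs
        obtain ⟨y, hy, rfl⟩ := hs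
        show (c : H)⁻¹ * ((c : H) * y * (c : H)⁻¹) * c ∈ (S : Subgroup H)
        rw [show (c : H)⁻¹ * ((c : H) * y * (c : H)⁻¹) * c = y by group]
        exact hy
      show s * ((c : H) * w₀ * (c : H)⁻¹) = (c : H) * w₀ * (c : H)⁻¹ * s
      calc s * ((c : H) * w₀ * (c : H)⁻¹)
          = (c : H) * (((c : H)⁻¹ * s * c) * w₀) * (c : H)⁻¹ := by group
        _ = (c : H) * ((w₀ : H) * ((c : H)⁻¹ * s * c)) * (c : H)⁻¹ := by rw [hw₀c _ (hcinv s hs)]
        _ = _ := by group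
    calc s * (x : H) = s * v * ((v : H)⁻¹ * x) := by group
      _ = v * (s * ((v : H)⁻¹ * x)) := by rw [hvc, mul_assoc]
      _ = v * ((v : H)⁻¹ * x * s) := by rw [hDc _ hdD s hs]
      _ = _ := by group
  -- the image is non-abelian
  have hnP : NonComm (P : Subgroup ((↥C ⧸ Cfsg.oddCore ↥C) ⧸ A)) := by
    refine hd.comm_of_sq.resolve_left fun hall => ?_
    obtain ⟨a, ha, b, hb, hab⟩ := hna S
    exact hab (hsq1 ⟨b, hSC hb⟩ hb (hall _ (hfS _ hb)) a ha)
  have hcomm : ∀ x : ↥C, (x : H) ∈ ⁅(S : Subgroup H), (S : Subgroup H)⁆ →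
      ∀ s ∈ (S : Subgroup H), s * (x : H) = x * s := by
    intro x hx
    have hle : ⁅(S : Subgroup H), (S : Subgroup H)⁆ ≤ Subgroup.centralizer ((S : Subgroup H) : Set H) := by
      rw [Subgroup.commutator_le]
      intro a ha b hb
      refine Subgroup.mem_centralizer_iff.2 fun s hs => ?_
      have hab : ⁅a, b⁆ ∈ (S : Subgroup H) :=
        Subgroup.commutator_le_self _ (Subgroup.commutator_mem_commutator ha hb)
      have hpc : ∀ p ∈ (P : Subgroup ((↥C ⧸ Cfsg.oddCore ↥C) ⧸ A)),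
          p * f ⁅(⟨a, hSC ha⟩ : ↥C), ⟨b, hSC hb⟩⁆ = f ⁅(⟨a, hSC ha⟩ : ↥C), ⟨b, hSC hb⟩⁆ * p := by
        intro p hp
        set u := f ⟨a, hSC ha⟩
        set v := f ⟨b, hSC hb⟩
        have hu : u ∈ (P : Subgroup ((↥C ⧸ Cfsg.oddCore ↥C) ⧸ A)) := hfS _ ha
        have hv : v ∈ (P : Subgroup ((↥C ⧸ Cfsg.oddCore ↥C) ⧸ A)) := hfS _ hb
        rw [map_commutatorElement, show ⁅u, v⁆ = u * u * ((u⁻¹ * v) * (u⁻¹ * v)) * (v⁻¹ * v⁻¹) by
          rw [commutatorElement_def]; group]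
        have hp1 : Commute p (u * u) := hd.sq_central u hu p hp
        exact (hp1.mul_right
          (hd.sq_central _ (mul_mem (inv_mem hu) hv) p hp)).mul_right
            (hd.sq_central _ (inv_mem hv) p hp)
      exact hsq1 ⁅(⟨a, hSC ha⟩ : ↥C), ⟨b, hSC hb⟩⁆ hab
        (hd.center_sq hnP _ (hfS _ hab) hpc) s hs
    exact fun s hs => Subgroup.mem_centralizer_iff.1 (hle hx) s hs
  have hmapS : ((S.subtype hSC : Sylow 2 ↥C) : Subgroup ↥C).map f =
      (P : Subgroup ((↥C ⧸ Cfsg.oddCore ↥C) ⧸ A)) := rfl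
  have hPcomm : ⁅(P : Subgroup ((↥C ⧸ Cfsg.oddCore ↥C) ⧸ A)), (P : Subgroup _)⁆ =
      ((⁅(S : Subgroup H), (S : Subgroup H)⁆).subgroupOf C).map f := by
    rw [← hmapS, ← Subgroup.map_commutator]
    congr 1
    refine Subgroup.map_injective C.subtype_injective ?_
    rw [Subgroup.map_commutator, Subgroup.map_subgroupOf_eq_of_le
      ((Subgroup.commutator_le_self _).trans hSC), Sylow.coe_subtype,
      Subgroup.map_subgroupOf_eq_of_le hSC]
  refine Or.inr ⟨fun c hc => hcomm ⟨c, hSC (Subgroup.commutator_le_self _ hc)⟩ hc, ?_, ?_⟩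
  · intro z hz hzc
    have h1 := hd.inv_mem_commutator hnP _ (hfS ⟨z, hSC hz⟩ hz)
      (hd.center_sq hnP _ (hfS ⟨z, hSC hz⟩ hz) (hcen ⟨z, hSC hz⟩ hzc))
    rw [hPcomm] at h1
    obtain ⟨c, hc, e⟩ := h1
    have hcS : (c : H) ∈ (S : Subgroup H) := Subgroup.commutator_le_self _ hc
    refine ⟨z * (c : H)⁻¹, (hker (⟨z, hSC hz⟩ * c⁻¹) (mul_mem hz (inv_mem hcS))).1 ?_, c, hc,
      by group⟩
    rw [map_mul, map_inv, e, mul_inv_cancel]
  -- the intersection with the commutator subgroup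
  refine (Subgroup.eq_bot_iff_forall _).2 fun x hx => ?_
  obtain ⟨hxD, hxc⟩ := Subgroup.mem_inf.1 hx
  have hxS : x ∈ (S : Subgroup H) := hxD.1
  have hodd_done : ∀ n, Odd n → Cfsg.HasCyclicSchurMultiplier
      ↥(Cfsg.pElementClosure 2 (⊤ : Subgroup ((↥C ⧸ Cfsg.oddCore ↥C) ⧸ A))) n → x = 1 := by
    intro n hn hmult
    set E := Cfsg.pElementClosure 2 (⊤ : Subgroup ((↥C ⧸ Cfsg.oddCore ↥C) ⧸ A))
    let σ : ↥(E.comap q) →* ↥E := q.subgroupComap E
    have hσs : Function.Surjective σ := by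
      rintro ⟨e, he⟩
      obtain ⟨y, rfl⟩ := hqs e
      exact ⟨⟨y, he⟩, rfl⟩
    have hσk : ∀ y, y ∈ σ.ker ↔ (y : ↥C ⧸ Cfsg.oddCore ↥C) ∈ A := fun y => by
      rw [MonoidHom.mem_ker, Subtype.ext_iff]
      exact QuotientGroup.eq_one_iff _
    have hσc : σ.ker ≤ Subgroup.center ↥(E.comap q) := fun y hy => Subgroup.mem_center_iff.2
      fun g => Subtype.ext (Subgroup.mem_center_iff.1 (hAc ((hσk y).1 hy)) g)
    have hdvd := card_ker_inf_commutator_dvd hmult σ hσs hσc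
    have hSE : ((S : Subgroup H).subgroupOf C).map π ≤ E.comap q := by
      rintro _ ⟨s, hs, rfl⟩
      refine Subgroup.subset_closure ⟨Subgroup.mem_top _, ?_⟩
      obtain ⟨k, hk⟩ := IsPGroup.iff_orderOf.1 P.isPGroup' ⟨f s, hfS s hs⟩
      exact ⟨k, by rw [Subgroup.orderOf_mk] at hk; exact hk⟩
    have hcE : ((⁅(S : Subgroup H), (S : Subgroup H)⁆).subgroupOf C).map π ≤
        (commutator ↥(E.comap q)).map (E.comap q).subtype := by
      rw [_root_.commutator_def, Subgroup.map_commutator, ← MonoidHom.range_eq_map, Subgroup.range_subtype]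
      refine le_trans (le_of_eq ?_) (Subgroup.commutator_mono hSE hSE)
      rw [← Subgroup.map_commutator]
      congr 1
      refine Subgroup.map_injective C.subtype_injective ?_
      rw [Subgroup.map_commutator, Subgroup.map_subgroupOf_eq_of_le
        ((Subgroup.commutator_le_self _).trans hSC), Subgroup.map_subgroupOf_eq_of_le hSC]
    obtain ⟨y, hy, hyx⟩ := hcE ⟨⟨x, hSC hxS⟩, hxc, rfl⟩
    have hy' : y ∈ σ.ker ⊓ commutator ↥(E.comap q) := by
      refine ⟨(hσk y).2 ?_, hy⟩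
      rw [show (y : ↥C ⧸ Cfsg.oddCore ↥C) = π ⟨x, hSC hxS⟩ from hyx]
      exact ((hmem ⟨x, hSC hxS⟩).1 hxD).2
    have hodd : Odd (orderOf (π ⟨x, hSC hxS⟩)) := by
      rw [← hyx]
      show Odd (orderOf ((y : ↥(E.comap q)) : ↥C ⧸ Cfsg.oddCore ↥C))
      rw [Subgroup.orderOf_coe]
      exact hn.of_dvd_nat ((Subgroup.orderOf_dvd_natCard _ hy').trans hdvd)
    have h1 : π ⟨x, hSC hxS⟩ = 1 := by
      obtain ⟨k, hk⟩ := IsPGroup.iff_orderOf.1 S.isPGroup' ⟨x, hxS⟩
      rw [Subgroup.orderOf_mk] at hk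
      have hd2 : orderOf (π ⟨x, hSC hxS⟩) ∣ 2 ^ k := hk ▸
        (orderOf_map_dvd π ⟨x, hSC hxS⟩).trans (dvd_of_eq (Subgroup.orderOf_mk x _))
      refine orderOf_eq_one_iff.1 (Nat.eq_one_of_dvd_coprimes ?_ hd2 dvd_rfl)
      exact (Nat.coprime_two_left.2 hodd).pow_left k
    exact congrArg Subtype.val (eq_one_of_two_of_odd ((S.subtype hSC).isPGroup') hπk
      (x := ⟨x, hSC hxS⟩) hxS h1)
  rcases htype with ⟨hc, -⟩ | ⟨-, F, _, _, m, hm, hF, hcard, hq8, ⟨e⟩⟩ | ⟨-, F, _, _, n, hn, hF, ⟨e⟩⟩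
  · exact absurd hnP hc
  · by_cases hm2 : 2 ≤ m
    · exact hodd_done 1 odd_one (Schur.hasSchurMultiplier_congr e.symm (sz_multiplier hm2 hF))
    obtain rfl : m = 1 := by omega
    let g : (S : Subgroup H) →* (↥C ⧸ Cfsg.oddCore ↥C) ⧸ A := f.comp (Subgroup.inclusion hSC)
    have hgrange : g.range = (P : Subgroup ((↥C ⧸ Cfsg.oddCore ↥C) ⧸ A)) := by
      ext y
      exact ⟨fun ⟨s, hs⟩ => ⟨⟨s, hSC s.2⟩, s.2, hs⟩, fun ⟨s, hs, e⟩ => ⟨⟨s, hs⟩, e⟩⟩
    have hxc' : (⟨x, hxS⟩ : (S : Subgroup H)) ∈ commutator (S : Subgroup H) := by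
      have h' : x ∈ (commutator (S : Subgroup H)).map (S : Subgroup H).subtype := by
        rwa [_root_.commutator_def, Subgroup.map_commutator, ← MonoidHom.range_eq_map,
          Subgroup.range_subtype]
      obtain ⟨y, hy, e⟩ := h'
      rwa [show (⟨x, hxS⟩ : (S : Subgroup H)) = y from Subtype.ext e.symm]
    exact congrArg Subtype.val (eight_case g hgrange hd hnP (hcard.trans (by norm_num))
      (hq8.trans (by norm_num))
      (fun y hy => Subgroup.mem_center_iff.2 fun t => Subtype.ext (hsq1 ⟨y, hSC y.2⟩ y.2 hy t t.2))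
      ⟨x, hxS⟩ hxc' ((hker ⟨x, hSC hxS⟩ hxS).2 hxD))
  · obtain ⟨d, hdodd, hmult⟩ := psu_multiplier hn hF
    exact hodd_done d hdodd (Schur.hasSchurMultiplier_congr e.symm hmult)

end Centralizer

end Cfsg.Agent.CISylow69
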