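import Cfsg.Agent.CISylow69.Uniform
import Cfsg.Agent.FPFStructure.Iso

/-!
Groups generated by 2-elements: central extensions, and the double cover of `A₅`.
-/

set_option autoImplicit false
set_option linter.style.haveILetI false

namespace Cfsg.Agent.CISylow69

open Subgroup BenderCons37 Suz27
open scoped commutatorElement

/-- Generated by the elements of 2-power order. -/
def TwoGen (M : Type*) [Group M] : Prop := Cfsg.pElementClosure 2 (⊤ : Subgroup M) = ⊤

variable {M : Type*} [Group M]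

theorem TwoGen.le (h : TwoGen M) {X : Subgroup M}
    (hX : ∀ x : M, (∃ k : ℕ, orderOf x = 2 ^ k) → x ∈ X) : X = ⊤ :=
  top_le_iff.1 (h.ge.trans ((Subgroup.closure_le X).2 fun x hx => hX x hx.2))

theorem exists_orderOf_map {N : Type*} [Group N] (f : M →* N) {x : M}
    (h : ∃ k : ℕ, orderOf x = 2 ^ k) : ∃ k : ℕ, orderOf (f x) = 2 ^ k := by
  obtain ⟨k, hk⟩ := h
  obtain ⟨j, -, hj⟩ := (Nat.dvd_prime_pow Nat.prime_two).1 (hk ▸ orderOf_map_dvd f x)
  exact ⟨j, hj⟩

theorem TwoGen.map (h : TwoGen M) {N : Type*} [Group N] (f : M →* N) (hf : Function.Surjective f) :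
    TwoGen N := by
  refine top_le_iff.1 fun y _ => ?_
  obtain ⟨x, rfl⟩ := hf y
  have hle := h.le (X := (Cfsg.pElementClosure 2 (⊤ : Subgroup N)).comap f) fun x hx =>
    Subgroup.subset_closure ⟨Subgroup.mem_top _, exists_orderOf_map f hx⟩
  exact (hle.ge (Subgroup.mem_top x) :)

theorem twoGen_pElementClosure (G : Type*) [Group G] :
    TwoGen ↥(Cfsg.pElementClosure 2 (⊤ : Subgroup G)) := by
  refine (Subgroup.eq_top_iff' _).2 fun x => ?_
  obtain ⟨x, hx⟩ := x
  induction hx using Subgroup.closure_induction with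
  | mem y hy => exact Subgroup.subset_closure ⟨Subgroup.mem_top _, hy.2.imp fun k hk =>
      (Subgroup.orderOf_mk y _).trans hk⟩
  | one => exact one_mem _
  | mul a b ha hb iha ihb => exact mul_mem iha ihb
  | inv a ha iha => exact inv_mem iha

theorem commutatorElement_of_center {x z : M} (hz : z ∈ Subgroup.center M) : z * x = x * z :=
  (Subgroup.mem_center_iff.1 hz x).symm

section Ext

variable {K : Type*} [Group K] (ρ : M →* K) (hρ : Function.Surjective ρ)
  (hc : ρ.ker ≤ Subgroup.center M) (hK : commutator K = ⊤)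

include hρ hK in
theorem map_commutator_eq_top : (commutator M).map ρ = ⊤ := by
  rw [_root_.commutator_def, Subgroup.map_commutator, Subgroup.map_top_of_surjective ρ hρ,
    ← _root_.commutator_def, hK]

include hρ hK in
theorem exists_mul_ker (x : M) : ∃ l ∈ commutator M, ∃ z ∈ ρ.ker, x = l * z := by
  obtain ⟨l, hl, e⟩ : ρ x ∈ (commutator M).map ρ := by
    rw [map_commutator_eq_top ρ hρ hK]; exact Subgroup.mem_top _
  exact ⟨l, hl, l⁻¹ * x, by rw [MonoidHom.mem_ker, map_mul, map_inv, e, inv_mul_cancel], by group⟩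

include hρ hc hK in
/-- The commutator subgroup of a central extension of a perfect group is perfect. -/
theorem commutator_perfect : commutator ↥(commutator M) = ⊤ := by
  have hle : commutator M ≤ ⁅commutator M, commutator M⁆ := by
    conv_lhs => rw [_root_.commutator_def]
    rw [Subgroup.commutator_le]
    intro x _ y _
    obtain ⟨l, hl, z, hz, rfl⟩ := exists_mul_ker ρ hρ hK x
    obtain ⟨l', hl', z', hz', rfl⟩ := exists_mul_ker ρ hρ hK y
    rw [Schur.commutatorElement_mul_central (hc hz) (hc hz')]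
    exact Subgroup.commutator_mem_commutator hl hl'
  refine top_le_iff.1 fun x _ => ?_
  obtain ⟨y, hy, e⟩ : (x : M) ∈ (commutator ↥(commutator M)).map (commutator M).subtype := by
    rw [_root_.commutator_def (↥(commutator M)), Subgroup.map_commutator, ← MonoidHom.range_eq_map,
      Subgroup.range_subtype]
    exact hle x.2
  exact Subtype.ext e ▸ hy

variable [Finite M]

include hρ hc hK in
/-- A group generated by 2-elements is `O_2` times its commutator subgroup. -/
theorem pCore_sup_commutator (hgen : TwoGen M) : Cfsg.pCore 2 M ⊔ commutator M = ⊤ := by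
  haveI : Fact (Nat.Prime 2) := ⟨Nat.prime_two⟩
  -- the abelianisation is a 2-group
  have hL : ∀ w : M, Odd (orderOf w) → w ∈ commutator M := by
    have hab : ∀ a b : M ⧸ commutator M, a * b = b * a := by
      intro a b
      obtain ⟨a, rfl⟩ := QuotientGroup.mk'_surjective _ a
      obtain ⟨b, rfl⟩ := QuotientGroup.mk'_surjective _ b
      rw [← commutatorElement_eq_one_iff_mul_comm, ← map_commutatorElement]
      exact (QuotientGroup.eq_one_iff _).2
        (Subgroup.commutator_mem_commutator (Subgroup.mem_top a) (Subgroup.mem_top b))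
    have hp : IsPGroup 2 (M ⧸ commutator M) := by
      rw [← Thompson.pCore_eq_top_iff]
      refine (hgen.map _ (QuotientGroup.mk'_surjective (commutator M))).le fun x hx => ?_
      obtain ⟨k, hk⟩ := hx
      exact Thompson.le_pCore ⟨fun y hy g => by rw [hab g y, mul_inv_cancel_right]; exact hy⟩
        (IsPGroup.of_card (n := k) (by rw [Nat.card_zpowers, hk])) (Subgroup.mem_zpowers x)
    intro w hw
    obtain ⟨k, hk⟩ := hp (w : M ⧸ commutator M)
    rw [← QuotientGroup.eq_one_iff, ← orderOf_eq_one_iff]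
    exact Nat.eq_one_of_dvd_coprimes ((Nat.coprime_two_left.2 hw).pow_left k)
      (orderOf_dvd_of_pow_eq_one hk) (orderOf_map_dvd (QuotientGroup.mk' (commutator M)) w)
  refine top_le_iff.1 fun x _ => ?_
  obtain ⟨l, hl, z, hz, rfl⟩ := exists_mul_ker ρ hρ hK x
  refine Subgroup.mul_mem _ (Subgroup.mem_sup_right hl) ?_
  obtain ⟨a, b, hb, hab⟩ := Nat.exists_eq_two_pow_mul_odd (orderOf_pos z).ne'
  have h1 : z ^ b ∈ Cfsg.pCore 2 M := by
    refine Thompson.le_pCore ⟨fun y hy g => ?_⟩ ?_ (Subgroup.mem_zpowers _)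
    · rw [Subgroup.mem_center_iff.1 (Subgroup.zpowers_le.2 ((Subgroup.center M).pow_mem (hc hz) b) hy) g,
        mul_inv_cancel_right]
      exact hy
    · refine IsPGroup.of_card (n := a) ?_
      rw [Nat.card_zpowers, orderOf_pow_of_dvd hb.pos.ne' (hab ▸ Dvd.intro_left _ rfl), hab,
        Nat.mul_div_cancel _ hb.pos]
  have h2 : z ^ 2 ^ a ∈ commutator M := by
    refine hL _ ?_
    rwa [orderOf_pow_of_dvd (pow_ne_zero _ two_ne_zero) (hab ▸ Dvd.intro _ rfl), hab,
      Nat.mul_div_cancel_left _ (pow_pos two_pos _)]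
  have hcop : Nat.gcd b (2 ^ a) = 1 := (Nat.coprime_two_right.2 hb).pow_right a
  have e : z = (z ^ b) ^ Nat.gcdA b (2 ^ a) * (z ^ 2 ^ a) ^ Nat.gcdB b (2 ^ a) := by
    rw [← zpow_natCast z b, ← zpow_natCast z (2 ^ a), ← zpow_mul, ← zpow_mul, ← zpow_add,
      ← Nat.gcd_eq_gcd_ab, hcop, Nat.cast_one, zpow_one]
  rw [e]
  exact Subgroup.mul_mem _ (Subgroup.mem_sup_left (Subgroup.zpow_mem _ h1 _))
    (Subgroup.mem_sup_right (Subgroup.zpow_mem _ h2 _))

end Ext

/-- In a group with central Sylow intersections, generated by 2-elements and with two Sylow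
2-subgroups, `O_2` is central. -/
theorem pCore_le_center [Finite M] (hci : CI M) (hgen : TwoGen M) {S T : Sylow 2 M} (hne : S ≠ T) :
    Cfsg.pCore 2 M ≤ Subgroup.center M := by
  haveI : Fact (Nat.Prime 2) := ⟨Nat.prime_two⟩
  intro a ha
  refine Subgroup.mem_center_iff.2 fun g => ?_
  have h := hgen.le (X := Subgroup.centralizer {a}) fun x hx => ?_
  · exact Subgroup.mem_centralizer_singleton_iff.1 (h.ge (Subgroup.mem_top g))
  obtain ⟨k, hk⟩ := hx
  obtain ⟨R, hR⟩ := (IsPGroup.of_card (n := k) (by rw [Nat.card_zpowers, hk]) :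
    IsPGroup 2 ↥(Subgroup.zpowers x)).exists_le_sylow
  obtain ⟨R', hR'⟩ : ∃ R' : Sylow 2 M, R ≠ R' := by
    by_cases h : R = S
    · exact ⟨T, h ▸ hne⟩
    · exact ⟨S, h⟩
  exact Subgroup.mem_centralizer_singleton_iff.2 (hci R R' hR' a (Thompson.pCore_le_sylow R ha)
    (Thompson.pCore_le_sylow R' ha) x (hR (Subgroup.mem_zpowers x)))

/-- A kernel central modulo a central subgroup of odd order is central. -/
theorem mem_center_of_odd [Finite M] {N : Subgroup M} (hN : N ≤ Subgroup.center M)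
    (hodd : Odd (Nat.card N)) {y : M} (h2 : ∃ a : ℕ, y ^ 2 ^ a ∈ N)
    (hy : ∀ g : M, y⁻¹ * (g * y * g⁻¹) ∈ N) : y ∈ Subgroup.center M := by
  obtain ⟨a, ha⟩ := h2
  refine Subgroup.mem_center_iff.2 fun g => ?_
  set n := y⁻¹ * (g * y * g⁻¹) with hn
  have hcm : Commute y n := Subgroup.mem_center_iff.1 (hN (hy g)) y
  have e : g * y * g⁻¹ = y * n := by rw [hn, mul_inv_cancel_left]
  have h1 : n ^ 2 ^ a = 1 := by
    have h := congrArg (fun x => x ^ 2 ^ a) e
    simp only [conj_pow, hcm.mul_pow] at h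
    rw [Subgroup.mem_center_iff.1 (hN ha) g, mul_inv_cancel_right] at h
    exact left_eq_mul.1 h
  have : n = 1 := orderOf_eq_one_iff.1 (Nat.eq_one_of_dvd_coprimes
    ((Nat.coprime_two_left.2 hodd).pow_left a) (orderOf_dvd_of_pow_eq_one h1)
    (Subgroup.orderOf_dvd_natCard N (hy g)))
  rw [this, mul_one] at e
  exact mul_inv_eq_iff_eq_mul.1 e

/-- A double cover of `PSL(2, 4)` inside a group with non-abelian Sylow 2-subgroups is `SL(2, 5)`. -/
theorem sl25_case [Finite M] (hna : NA M) (hM2 : Cfsg.pCore 2 M ≤ Subgroup.center M)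
    (hsup : Cfsg.pCore 2 M ⊔ commutator M = ⊤) {K : Type*} [Group K] (ρ : M →* K)
    (hρ : Function.Surjective ρ) (hker : ρ.ker = Cfsg.pCore 2 M) (hK : commutator K = ⊤)
    (hP : ∀ S : Sylow 2 M, (∀ x ∈ ((S : Subgroup M).map ρ), x * x = 1) ∧
      SylData ((S : Subgroup M).map ρ))
    (e : K ≃* alternatingGroup (Fin 5)) (hcard : Nat.card ↥(ρ.ker ⊓ commutator M) ∣ 2) :
    Nonempty (↥(commutator M) ≃* Matrix.SpecialLinearGroup (Fin 2) (ZMod 5)) := by
  haveI : Fact (Nat.Prime 2) := ⟨Nat.prime_two⟩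
  set A := Cfsg.pCore 2 M with hA
  set L := commutator M with hL
  -- abelian Sylow subgroups of `L` are impossible
  have hno : ∀ S : Sylow 2 M, ¬ (∀ x ∈ (S : Subgroup M) ⊓ L, x * x = 1) := by
    intro S hall
    obtain ⟨x, hx, y, hy, hne⟩ := hna S
    have hsplit : ∀ x ∈ (S : Subgroup M), ∃ a ∈ A, ∃ l ∈ (S : Subgroup M) ⊓ L, a * l = x := by
      intro x hx
      haveI : A.Normal := by rw [hA]; infer_instance
      obtain ⟨a, ha, l, hl, e'⟩ := Subgroup.mem_sup_of_normal_left.1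
        (hsup.ge (Subgroup.mem_top x) : x ∈ A ⊔ L)
      refine ⟨a, ha, l, Subgroup.mem_inf.2 ⟨?_, hl⟩, e'⟩
      rw [show l = a⁻¹ * x by rw [← e', inv_mul_cancel_left]]
      exact mul_mem (inv_mem (Thompson.pCore_le_sylow S ha)) hx
    obtain ⟨a, ha, l, hl, rfl⟩ := hsplit x hx
    obtain ⟨b, hb, m, hm, rfl⟩ := hsplit y hy
    refine hne ?_
    have hll : Commute l m := by
      show l * m = m * l
      calc l * m = (m * m) * (l * m) * (l * l) := by rw [hall l hl, hall m hm, one_mul, mul_one]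
        _ = m * ((m * l) * (m * l)) * l := by group
        _ = m * l := by rw [hall _ (mul_mem hm hl), mul_one]
    have h1 : ∀ {c : M}, c ∈ A → ∀ v, Commute c v := fun hc v =>
      (Subgroup.mem_center_iff.1 (hM2 hc) v).symm
    exact ((h1 ha _).mul_left (((h1 hb l).symm).mul_right hll))
  -- the kernel on `L`
  have hbot : ρ.ker ⊓ L ≠ ⊥ := by
    intro hb
    obtain ⟨S⟩ : Nonempty (Sylow 2 M) := inferInstance
    refine hno S fun x hx => ?_
    rw [← Subgroup.mem_bot, ← hb]
    refine Subgroup.mem_inf.2 ⟨?_, mul_mem hx.2 hx.2⟩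
    rw [MonoidHom.mem_ker, map_mul]
    exact (hP S).1 _ ⟨x, hx.1, rfl⟩
  have hc2 : Nat.card ↥(ρ.ker ⊓ L) = 2 :=
    ((Nat.dvd_prime Nat.prime_two).1 hcard).resolve_left fun h => hbot (Subgroup.card_eq_one.1 h)
  obtain ⟨⟨z, hz⟩, hzo⟩ := exists_prime_orderOf_dvd_card' (G := ↥(ρ.ker ⊓ L)) 2 (by rw [hc2])
  rw [Subgroup.orderOf_mk] at hzo
  have hzk : z ∈ ρ.ker := hz.1
  have hzA : z ∈ A := hker.le hz.1
  have hcase : ∀ g ∈ L, ρ g = 1 → g = 1 ∨ g = z := by
    intro g hg hg1
    have hg' : g ∈ Subgroup.zpowers z := by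
      rw [Subgroup.eq_of_le_of_card_ge (Subgroup.zpowers_le.2 hz) (by rw [hc2, Nat.card_zpowers, hzo])]
      exact ⟨hg1, hg⟩
    obtain ⟨i, rfl⟩ := Subgroup.mem_zpowers_iff.1 hg'
    rcases Int.even_or_odd i with ⟨j, rfl⟩ | ⟨j, rfl⟩
    · left; rw [← two_mul, zpow_mul, zpow_two, TwoFusionB.sq_eq_one_of_inv hzo, one_zpow]
    · right; rw [zpow_add, zpow_mul, zpow_two, TwoFusionB.sq_eq_one_of_inv hzo, one_zpow, one_mul,
        zpow_one]
  have hinv : ∀ t : L, t * t = 1 → t = 1 ∨ t = ⟨z, hz.2⟩ := by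
    intro t ht
    by_contra hcon
    push Not at hcon
    have ht' : (t : M) * t = 1 := congrArg Subtype.val ht
    have hρt : ρ t ≠ 1 := fun h => (hcase t t.2 h).elim (fun e => hcon.1 (Subtype.ext e))
      (fun e => hcon.2 (Subtype.ext e))
    have ho : orderOf (t : M) = 2 :=
      BenderCons37.orderOf_eq_two (fun e => hcon.1 (Subtype.ext e)) ht'
    obtain ⟨S, hS⟩ := (IsPGroup.of_card (n := 1) (by rw [Nat.card_zpowers, ho, pow_one]) :
      IsPGroup 2 ↥(Subgroup.zpowers (t : M))).exists_le_sylow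
    refine hno S fun x hx => ?_
    by_cases hx1 : ρ x = 1
    · rcases hcase x hx.2 hx1 with rfl | rfl
      · exact one_mul 1
      · exact TwoFusionB.sq_eq_one_of_inv hzo
    have hρ2 : ρ t * ρ t = 1 := by rw [← map_mul, ht', map_one]
    obtain ⟨g, -, hg⟩ := (hP S).2.transitive _ ⟨(t : M), hS (Subgroup.mem_zpowers _), rfl⟩ _
      ⟨x, hx.1, rfl⟩ (BenderCons37.orderOf_eq_two hρt hρ2)
      (BenderCons37.orderOf_eq_two hx1 ((hP S).1 _ ⟨x, hx.1, rfl⟩))
    obtain ⟨c, rfl⟩ := hρ g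
    rw [← map_inv, ← map_mul, ← map_mul] at hg
    have hcL : c * t * c⁻¹ ∈ L := (inferInstance : (commutator M).Normal).conj_mem _ t.2 c
    have hsq : c * t * c⁻¹ * (c * t * c⁻¹) = 1 := by
      calc c * t * c⁻¹ * (c * t * c⁻¹) = c * ((t : M) * t) * c⁻¹ := by group
        _ = 1 := by rw [ht', mul_one, mul_inv_cancel]
    rcases hcase _ (mul_mem (inv_mem hcL) hx.2) (by rw [map_mul, map_inv, hg, inv_mul_cancel])
      with h | h
    · rw [← inv_mul_eq_one.1 h]; exact hsq
    · have hxe : x = c * t * c⁻¹ * z := by rw [← h, mul_inv_cancel_left]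
      have hzc : ∀ v, Commute z v := fun v => (Subgroup.mem_center_iff.1 (hM2 hzA) v).symm
      rw [hxe]
      calc c * t * c⁻¹ * z * (c * t * c⁻¹ * z)
          = c * t * c⁻¹ * (z * (c * t * c⁻¹)) * z := by group
        _ = c * t * c⁻¹ * (c * t * c⁻¹ * z) * z := by rw [(hzc (c * t * c⁻¹)).eq]
        _ = (c * t * c⁻¹ * (c * t * c⁻¹)) * (z * z) := by group
        _ = 1 := by rw [hsq, TwoFusionB.sq_eq_one_of_inv hzo, one_mul]
  refine FPFStructure.equiv_sl (ζ := (⟨z, hz.2⟩ : L))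
    ⟨fun e => TwoFusionB.ne_one_of_inv hzo (congrArg Subtype.val e),
      Subtype.ext (TwoFusionB.sq_eq_one_of_inv hzo)⟩
    (fun g => Subtype.ext (Subgroup.mem_center_iff.1 (hM2 hzA) g).symm) hinv ?_
  refine ⟨e.toMonoidHom.comp (ρ.comp L.subtype), fun v => ?_, fun g => ?_⟩
  · obtain ⟨k, rfl⟩ := e.surjective v
    obtain ⟨l, hl, rfl⟩ : k ∈ L.map ρ := by
      rw [hL, map_commutator_eq_top ρ hρ hK]; exact Subgroup.mem_top k
    exact ⟨⟨l, hl⟩, rfl⟩
  · show e (ρ g) = 1 ↔ _
    rw [MulEquiv.map_eq_one_iff]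
    refine ⟨fun h => ?_, ?_⟩
    · rcases hcase g g.2 h with h | h
      · exact Or.inl (Subtype.ext h)
      · exact Or.inr (Subtype.ext h)
    · rintro (rfl | rfl)
      · exact map_one ρ
      · exact hzk

end Cfsg.Agent.CISylow69
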