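import Cfsg.Agent.S3183
import Cfsg.Agent.BenderCons37.Basic

/-!
Groups in which the intersection of two distinct Sylow 2-subgroups is central in each of them:
inheritance by subgroups and by quotients by normal subgroups of odd order.
-/

set_option autoImplicit false
set_option linter.style.haveILetI false

namespace Cfsg.Agent.CISylow69

open Subgroup

variable {G : Type*} [Group G]

/-- The intersection of two distinct Sylow 2-subgroups is central in each. -/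
def CI (G : Type*) [Group G] : Prop :=
  ∀ S T : Sylow 2 G, S ≠ T → ∀ x ∈ (S : Subgroup G), x ∈ (T : Subgroup G) →
    ∀ s ∈ (S : Subgroup G), s * x = x * s

/-- Two elements of `S` do not commute. -/
def NonComm (S : Subgroup G) : Prop := ∃ x ∈ S, ∃ y ∈ S, x * y ≠ y * x

/-- The Sylow 2-subgroups are non-abelian. -/
def NA (G : Type*) [Group G] : Prop := ∀ S : Sylow 2 G, NonComm (S : Subgroup G)

theorem CI.of_stmt [Finite G]
    (h : ∀ S T : Sylow 2 G, S ≠ T → ∃ U : Sylow 2 G,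
      (S : Subgroup G) ⊓ (T : Subgroup G) ≤
        (Subgroup.center ↥(U : Subgroup G)).map (U : Subgroup G).subtype) : CI G :=
  fun S T hne x hS hT s hs =>
    ((S3183.mem_map_center _ x).1
      (S3183.inf_le_center h S T hne.symm (Subgroup.mem_inf.2 ⟨hS, hT⟩))).2 s hs

theorem CI.to_stmt (h : CI G) : ∀ S T : Sylow 2 G, S ≠ T → ∃ U : Sylow 2 G,
    (S : Subgroup G) ⊓ (T : Subgroup G) ≤
      (Subgroup.center ↥(U : Subgroup G)).map (U : Subgroup G).subtype :=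
  fun S T hne => ⟨S, fun x hx => (S3183.mem_map_center _ x).2
    ⟨hx.1, fun s hs => h S T hne x hx.1 hx.2 s hs⟩⟩

/-- A non-central element of a Sylow 2-subgroup lies in no other one. -/
theorem CI.eq_of_noncentral (h : CI G) {S T : Sylow 2 G} {x s : G} (hs : s ∈ (S : Subgroup G))
    (hx : x ∈ (S : Subgroup G)) (hne : s * x ≠ x * s) (hT : x ∈ (T : Subgroup G)) : T = S :=
  by_contra fun hTS => hne (h S T (Ne.symm hTS) x hx hT s hs)

theorem sylow_eq_of_le {S T : Sylow 2 G} (h : (S : Subgroup G) ≤ T) : S = T :=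
  Sylow.ext (S.is_maximal' T.isPGroup' h).symm

theorem exists_sylow_conj [Finite G] (S T : Sylow 2 G) :
    ∃ g : G, ∀ x : G, x ∈ (T : Subgroup G) ↔ g⁻¹ * x * g ∈ (S : Subgroup G) := by
  haveI : Fact (Nat.Prime 2) := ⟨Nat.prime_two⟩
  obtain ⟨g, hg⟩ := MulAction.exists_smul_eq G S T
  refine ⟨g, fun x => ?_⟩
  rw [← hg, Sylow.coe_subgroup_smul, Subgroup.mem_pointwise_smul_iff_inv_smul_mem,
    ← map_inv, MulAut.smul_def, MulAut.conj_apply, inv_inv]

theorem NA.of_one [Finite G] {S : Sylow 2 G} (h : NonComm (S : Subgroup G)) : NA G := by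
  intro T
  obtain ⟨g, hg⟩ := exists_sylow_conj T S
  obtain ⟨x, hx, y, hy, hne⟩ := h
  refine ⟨g⁻¹ * x * g, (hg x).1 hx, g⁻¹ * y * g, (hg y).1 hy, fun e => hne ?_⟩
  calc x * y = g * ((g⁻¹ * x * g) * (g⁻¹ * y * g)) * g⁻¹ := by group
    _ = g * ((g⁻¹ * y * g) * (g⁻¹ * x * g)) * g⁻¹ := by rw [e]
    _ = y * x := by group

theorem CI.subgroup (h : CI G) (H : Subgroup G) : CI ↥H := by
  intro R R' hne x hx hx' r hr
  obtain ⟨S, hS⟩ := (R.isPGroup'.map H.subtype).exists_le_sylow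
  obtain ⟨S', hS'⟩ := (R'.isPGroup'.map H.subtype).exists_le_sylow
  refine Subtype.ext (h S S' ?_ x (hS ⟨x, hx, rfl⟩) (hS' ⟨x, hx', rfl⟩) r (hS ⟨r, hr, rfl⟩))
  rintro rfl
  have hP : IsPGroup 2 ((S : Subgroup G).subgroupOf H) :=
    S.isPGroup'.comap_of_injective H.subtype Subtype.val_injective
  have e : ∀ R₀ : Sylow 2 ↥H, (R₀ : Subgroup ↥H).map H.subtype ≤ S →
      (S : Subgroup G).subgroupOf H = R₀ :=
    fun R₀ h₀ => R₀.is_maximal' hP fun y hy => h₀ ⟨y, hy, rfl⟩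
  exact hne (Sylow.ext ((e R hS).symm.trans (e R' hS')))

theorem NA.subgroup [Finite G] (h : NA G) {S : Sylow 2 G} {H : Subgroup G}
    (hS : (S : Subgroup G) ≤ H) : NA ↥H := by
  obtain ⟨x, hx, y, hy, hne⟩ := h S
  exact NA.of_one (S := S.subtype hS) ⟨⟨x, hS hx⟩, hx, ⟨y, hS hy⟩, hy,
    fun e => hne (congrArg Subtype.val e)⟩

theorem eq_one_of_two_of_odd [Finite G] {S N : Subgroup G} (hS : IsPGroup 2 S)
    (hN : Odd (Nat.card N)) {x : G} (hxS : x ∈ S) (hxN : x ∈ N) : x = 1 := by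
  obtain ⟨k, hk⟩ := IsPGroup.iff_orderOf.1 hS ⟨x, hxS⟩
  rw [Subgroup.orderOf_mk] at hk
  refine orderOf_eq_one_iff.1 (Nat.eq_one_of_dvd_coprimes ?_ hk.dvd
    (Subgroup.orderOf_dvd_natCard N hxN))
  exact (Nat.coprime_two_left.2 hN).pow_left k

section Quot

variable [Finite G] {G' : Type*} [Group G'] (f : G →* G')

/-- Every Sylow 2-subgroup of a homomorphic image is an image. -/
theorem exists_sylow_map (hf : Function.Surjective f) (T : Sylow 2 G') :
    ∃ S : Sylow 2 G, (T : Subgroup G') = (S : Subgroup G).map f := by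
  haveI : Fact (Nat.Prime 2) := ⟨Nat.prime_two⟩
  haveI : Finite G' := Finite.of_surjective f hf
  obtain ⟨S⟩ : Nonempty (Sylow 2 G) := inferInstance
  obtain ⟨g', hg'⟩ := exists_sylow_conj (S.mapSurjective hf) T
  obtain ⟨g, rfl⟩ := hf g'
  refine ⟨g • S, ?_⟩
  ext x
  rw [hg', Sylow.coe_mapSurjective, Sylow.coe_subgroup_smul]
  constructor
  · rintro ⟨s, hs, e⟩
    exact ⟨g * s * g⁻¹, ⟨s, hs, rfl⟩, by simp [e, mul_assoc]⟩
  · rintro ⟨_, ⟨s, hs, rfl⟩, rfl⟩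
    exact ⟨s, hs, by simp [MulAut.smul_def, mul_assoc]⟩

/-- A 2-element of `T N`, for `N` normal, lies in a conjugate of `T` under `N`. -/
theorem exists_conj_of_mem_map {S T : Sylow 2 G} {x y : G}
    (hx : x ∈ (S : Subgroup G)) (hy : y ∈ (T : Subgroup G)) (e : f x = f y) :
    ∃ n ∈ f.ker, x ∈ ((n • T : Sylow 2 G) : Subgroup G) := by
  haveI : Fact (Nat.Prime 2) := ⟨Nat.prime_two⟩
  set X : Subgroup G := (T : Subgroup G) ⊔ f.ker with hX
  have hTX : (T : Subgroup G) ≤ X := le_sup_left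
  have hxX : x ∈ X := by
    rw [show x = y * (y⁻¹ * x) by group]
    exact Subgroup.mul_mem_sup hy (by rw [MonoidHom.mem_ker, map_mul, map_inv, e, inv_mul_cancel])
  obtain ⟨R, hR⟩ := ((S.isPGroup'.to_le (inf_le_left : (S : Subgroup G) ⊓ X ≤ S)).of_equiv
    (Subgroup.subgroupOfEquivOfLe (inf_le_right : (S : Subgroup G) ⊓ X ≤ X)).symm).exists_le_sylow
  have hxR : (⟨x, hxX⟩ : X) ∈ (R : Subgroup X) := hR (Subgroup.mem_subgroupOf.2 ⟨hx, hxX⟩)
  obtain ⟨g, hg⟩ := exists_sylow_conj (T.subtype hTX) R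
  obtain ⟨n, hn, t, ht, hnt⟩ : ∃ n ∈ f.ker, ∃ t ∈ (T : Subgroup G), n * t = g := by
    have hgX : (g : G) ∈ (f.ker ⊔ (T : Subgroup G)) := sup_comm (T : Subgroup G) f.ker ▸ g.2
    exact Subgroup.mem_sup_of_normal_left.1 hgX
  have h' : (g : G)⁻¹ * x * g ∈ (T : Subgroup G) := (hg _).1 hxR
  refine ⟨n, hn, ?_⟩
  rw [Sylow.coe_subgroup_smul, Subgroup.mem_pointwise_smul_iff_inv_smul_mem, ← map_inv,
    MulAut.smul_def, MulAut.conj_apply, inv_inv]
  have h'' := (T : Subgroup G).mul_mem ((T : Subgroup G).mul_mem ht h')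
    ((T : Subgroup G).inv_mem ht)
  rw [← hnt] at h''
  simpa [mul_assoc] using h''

omit [Finite G] in
theorem map_conj_sylow {n : G} (hn : n ∈ f.ker) (T : Sylow 2 G) :
    ((n • T : Sylow 2 G) : Subgroup G).map f = (T : Subgroup G).map f := by
  have h1 : f n = 1 := hn
  rw [Sylow.coe_subgroup_smul]
  ext x
  constructor
  · rintro ⟨_, ⟨t, ht, rfl⟩, rfl⟩
    exact ⟨t, ht, by simp [MulAut.smul_def, h1]⟩
  · rintro ⟨t, ht, rfl⟩
    exact ⟨_, ⟨t, ht, rfl⟩, by simp [MulAut.smul_def, h1]⟩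

theorem CI.map (h : CI G) (hf : Function.Surjective f) (hodd : Odd (Nat.card f.ker)) : CI G' := by
  intro S' T' hne x hxS hxT s hs
  obtain ⟨S, hS⟩ := exists_sylow_map f hf S'
  obtain ⟨T, hT⟩ := exists_sylow_map f hf T'
  rw [hS] at hxS hs
  rw [hT] at hxT
  obtain ⟨x₁, hx₁, rfl⟩ := hxS
  obtain ⟨x₂, hx₂, e⟩ := hxT
  obtain ⟨s, hs, rfl⟩ := hs
  obtain ⟨n, hn, hxn⟩ := exists_conj_of_mem_map f hx₁ hx₂ e.symm
  have hne' : S ≠ n • T := fun e' => hne (Sylow.ext (by rw [hS, hT, e', map_conj_sylow f hn]))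
  rw [← map_mul, ← map_mul, h S _ hne' x₁ hx₁ hxn s hs]

theorem NA.map (h : NA G) (hf : Function.Surjective f) (hodd : Odd (Nat.card f.ker)) : NA G' := by
  intro T
  obtain ⟨S, hS⟩ := exists_sylow_map f hf T
  obtain ⟨x, hx, y, hy, hne⟩ := h S
  refine ⟨f x, hS ▸ Subgroup.mem_map_of_mem f hx, f y, hS ▸ Subgroup.mem_map_of_mem f hy, fun e => ?_⟩
  have hk : x * y * (y * x)⁻¹ ∈ f.ker := by
    rw [MonoidHom.mem_ker, map_mul, map_inv, map_mul, map_mul, e, mul_inv_cancel]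
  have hm : x * y * (y * x)⁻¹ ∈ (S : Subgroup G) :=
    mul_mem (mul_mem hx hy) (inv_mem (mul_mem hy hx))
  exact hne (mul_inv_eq_one.1 (eq_one_of_two_of_odd S.isPGroup' hodd hm hk))

end Quot

end Cfsg.Agent.CISylow69
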