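import Cfsg.Agent.CISylow69.Basics
import Cfsg.Agent.S3184
import Cfsg.Agent.S0016
import Cfsg.Agent.Lib.RankOne.OddOrder

/-!
A 2-group acting on a group of odd order so that no non-central element fixes a point moved by it:
the commutator subgroup is then cyclic and acts faithfully.
-/

set_option autoImplicit false
set_option linter.style.haveILetI false

namespace Cfsg.Agent.CISylow69

open Subgroup

open scoped commutatorElement

variable {G : Type*} [Group G] [Finite G]

/-- Two commuting automorphisms of square one of a group of odd order: it is generated by the fixed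
points of the two and of their product. -/
theorem le_of_aut_four {W : Type*} [Group W] [Finite W] (hW : Odd (Nat.card W)) {α β : MulAut W}
    (hα : α * α = 1) (hβ : β * β = 1) (hc : α * β = β * α) {F : Subgroup W}
    (h1 : ∀ w, α w = w → w ∈ F) (h2 : ∀ w, β w = w → w ∈ F)
    (h3 : ∀ w, (α * β) w = w → w ∈ F) : ∀ w, w ∈ F := by
  let Γ := W ⋊[MonoidHom.id (MulAut W)] MulAut W
  haveI : Finite (MulAut W) := Finite.of_injective (fun e : MulAut W => (e : W → W))
    fun e e' h => MulEquiv.ext (congrFun h)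
  haveI : Finite Γ := Finite.of_equiv _ SemidirectProduct.equivProd.symm
  let i : W →* Γ := SemidirectProduct.inl
  let r : MulAut W →* Γ := SemidirectProduct.inr
  have hconj : ∀ (e : MulAut W) (w : W), r e * i w * (r e)⁻¹ = i (e w) := fun e w => by
    show _ = i ((MonoidHom.id (MulAut W) e) w)
    rw [SemidirectProduct.inl_aut, map_inv]
  have hfix : ∀ (e : MulAut W), (∀ w, e w = w → w ∈ F) →
      ∀ n ∈ i.range, r e * n = n * r e → n ∈ F.map i := by
    rintro e he _ ⟨w, rfl⟩ hcm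
    refine ⟨w, he w (SemidirectProduct.inl_injective (φ := MonoidHom.id (MulAut W)) ?_), rfl⟩
    show i (e w) = i w
    rw [← hconj, hcm, mul_inv_cancel_right]
  have hN : Odd (Nat.card i.range) := by
    rwa [← Nat.card_congr (MonoidHom.ofInjective SemidirectProduct.inl_injective).toEquiv]
  have hnorm : ∀ e : MulAut W, ∀ n ∈ i.range, r e * n * (r e)⁻¹ ∈ i.range := by
    rintro e _ ⟨w, rfl⟩
    exact ⟨e w, (hconj e w).symm⟩
  have hle := RankOne.le_of_four_group hN (x := r α) (y := r β) (by rw [← map_mul, hα, map_one])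
    (by rw [← map_mul, hβ, map_one]) (by rw [← map_mul, hc, map_mul]) (hnorm α) (hnorm β)
    (hfix α h1) (hfix β h2) (by rw [← map_mul]; exact hfix _ h3)
  intro w
  obtain ⟨w', hw', e⟩ := hle ⟨w, rfl⟩
  exact SemidirectProduct.inl_injective e ▸ hw'

theorem orderOf_eq_two_of {H : Type*} [Group H] {x : H} (hx : x ≠ 1) (hxx : x * x = 1) :
    orderOf x = 2 := BenderCons37.orderOf_eq_two hx hxx

/-- In a group whose only elements of square one are `1` and one other, subgroups of order two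
coincide. -/
theorem eq_of_card_two {H : Type*} [Group H] [Finite H]
    (h : ∀ a b : H, a ≠ 1 → b ≠ 1 → a * a = 1 → b * b = 1 → a = b) (X Y : Subgroup H)
    (hX : Nat.card X = 2) (hY : Nat.card Y = 2) : X = Y := by
  have key : ∀ X Y : Subgroup H, Nat.card X = 2 → Nat.card Y = 2 → X ≤ Y := by
    intro X Y hX hY a ha
    by_cases ha1 : a = 1
    · exact ha1 ▸ Y.one_mem
    obtain ⟨b, hb, hb1⟩ : ∃ b ∈ Y, b ≠ 1 := by
      by_contra hall
      push Not at hall
      rw [(Subgroup.eq_bot_iff_forall Y).2 hall, Subgroup.card_bot] at hY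
      omega
    have hsq : ∀ {Z : Subgroup H}, Nat.card Z = 2 → ∀ c ∈ Z, c * c = 1 := fun {Z} hZ c hc => by
      have := congrArg Subtype.val (pow_card_eq_one' (x := (⟨c, hc⟩ : Z)))
      rw [hZ] at this
      simpa [pow_two] using this
    exact h a b ha1 hb1 (hsq hX a ha) (hsq hY b hb) ▸ hb
  exact le_antisymm (key X Y hX hY) (key Y X hY hX)

/-- The group-theoretic part: a non-abelian `S` with a homomorphism whose kernel is central and
whose image has one involution has cyclic commutator subgroup mapped injectively. -/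
theorem commutator_of_unique_involution {S R : Type*} [Group S] [Group R] [Finite R]
    (f : S →* R) (hf : Function.Surjective f) (hR : IsPGroup 2 R)
    (hk : f.ker ≤ Subgroup.center S) (hna : ∃ x y : S, x * y ≠ y * x)
    (huni : ∀ a b : R, a ≠ 1 → b ≠ 1 → a * a = 1 → b * b = 1 → a = b) :
    IsCyclic (commutator S) ∧ ∀ c ∈ commutator S, f c = 1 → c = 1 := by
  haveI : Fact (Nat.Prime 2) := ⟨Nat.prime_two⟩
  rcases S0016.result 2 hR (eq_of_card_two huni) with hcyc | ⟨-, n, ⟨e⟩⟩
  · exfalso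
    obtain ⟨x, y, hxy⟩ := hna
    exact hxy ((commGroupOfCyclicCenterQuotient f hk).mul_comm x y)
  haveI : NeZero (2 ^ n) := ⟨pow_ne_zero _ two_ne_zero⟩
  set h := 2 ^ n with hh
  obtain ⟨x, hx⟩ := hf (e.symm (QuaternionGroup.a 1))
  obtain ⟨y, hy⟩ := hf (e.symm (QuaternionGroup.xa 0))
  have hpow : ∀ i : ℕ, f (x ^ i) = e.symm (QuaternionGroup.a (i : ZMod (2 * h))) := fun i => by
    rw [map_pow, hx, ← map_pow, QuaternionGroup.a_one_pow]
  -- relations
  obtain ⟨k, hk1, hrel⟩ : ∃ k ∈ f.ker, y * x * y⁻¹ = x⁻¹ * k := by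
    refine ⟨x * (y * x * y⁻¹), ?_, by group⟩
    have e1 : QuaternionGroup.a (1 : ZMod (2 * h)) *
        (QuaternionGroup.xa 0 * QuaternionGroup.a 1) = QuaternionGroup.xa 0 := by simp
    have e2 : f x * (f y * f x * (f y)⁻¹) = 1 := by
      rw [hx, hy, ← mul_assoc, ← map_mul, ← map_mul, e1, mul_inv_cancel]
    rw [MonoidHom.mem_ker, map_mul, map_mul, map_mul, map_inv, e2]
  obtain ⟨k₂, hk2, hsq⟩ : ∃ k₂ ∈ f.ker, x ^ h = y * y * k₂ := by
    refine ⟨(y * y)⁻¹ * x ^ h, ?_, by group⟩
    have e1 : QuaternionGroup.xa (0 : ZMod (2 * h)) * QuaternionGroup.xa 0 =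
        QuaternionGroup.a (h : ZMod (2 * h)) := by simp
    rw [MonoidHom.mem_ker, map_mul, map_inv, map_mul, hpow, hy, ← map_mul, e1, inv_mul_cancel]
  have hkc : ∀ {k : S}, k ∈ f.ker → ∀ g : S, g * k = k * g := fun hk' g =>
    Subgroup.mem_center_iff.1 (hk hk') g
  set c := x * (y * x⁻¹ * y⁻¹) with hc
  have hyxi : y * x⁻¹ * y⁻¹ = x * k⁻¹ := by
    rw [show y * x⁻¹ * y⁻¹ = (y * x * y⁻¹)⁻¹ by group, hrel, mul_inv_rev, inv_inv,
      hkc (f.ker.inv_mem hk1) x]
  have hck : c = x * x * k⁻¹ := by rw [hc, hyxi, mul_assoc]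
  have hxc : Commute x c := by
    rw [hck]
    exact ((Commute.refl x).mul_right (Commute.refl x)).mul_right (hkc (f.ker.inv_mem hk1) x)
  have hyc : y * c * y⁻¹ = c⁻¹ := by
    rw [hck]
    calc y * (x * x * k⁻¹) * y⁻¹ = (y * x * y⁻¹) * (y * x * y⁻¹) * (y * k⁻¹ * y⁻¹) := by group
      _ = (x⁻¹ * k) * (x⁻¹ * k) * k⁻¹ := by
        rw [hrel, hkc (f.ker.inv_mem hk1) y, mul_inv_cancel_right]
      _ = x⁻¹ * (k * x⁻¹) := by group
      _ = x⁻¹ * (x⁻¹ * k) := by rw [hkc hk1 x⁻¹]
      _ = k * (x⁻¹ * x⁻¹) := by rw [← mul_assoc, hkc hk1 (x⁻¹ * x⁻¹)]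
      _ = _ := by group
  -- generation
  have hgen : ∀ g : S, g ∈ Subgroup.closure ({x, y} ∪ (f.ker : Set S)) := by
    intro g
    set X := Subgroup.closure ({x, y} ∪ (f.ker : Set S))
    have hxX : x ∈ X := Subgroup.subset_closure (by simp)
    have hyX : y ∈ X := Subgroup.subset_closure (by simp)
    have hk' : ∀ {g' : S}, g' ∈ X → f g = f g' → g ∈ X := fun {g'} hg' e' => by
      rw [show g = g' * (g'⁻¹ * g) by group]
      refine X.mul_mem hg' (Subgroup.subset_closure (Or.inr ?_))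
      rw [SetLike.mem_coe, MonoidHom.mem_ker, map_mul, map_inv, e', inv_mul_cancel]
    rcases hi : e (f g) with i | i
    · refine hk' (X.pow_mem hxX i.val) (e.injective ?_)
      rw [hi, hpow, MulEquiv.apply_symm_apply, ZMod.natCast_zmod_val]
    · refine hk' (X.mul_mem hyX (X.pow_mem hxX i.val)) (e.injective ?_)
      rw [hi, map_mul f, hpow, hy, map_mul e, MulEquiv.apply_symm_apply, MulEquiv.apply_symm_apply,
        ZMod.natCast_zmod_val, QuaternionGroup.xa_mul_a, zero_add]
  haveI hnorm : (Subgroup.zpowers c).Normal := by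
    refine ⟨fun z hz g => ?_⟩
    suffices hS : Subgroup.closure ({x, y} ∪ (f.ker : Set S)) ≤
        Subgroup.normalizer (Subgroup.zpowers c : Set S) from
      (Subgroup.mem_normalizer_iff.1 (hS (hgen g)) z).1 hz
    refine (Subgroup.closure_le _).2 ?_
    have key : ∀ g : S, (g * c * g⁻¹ = c ∨ g * c * g⁻¹ = c⁻¹) →
        g ∈ Subgroup.normalizer (Subgroup.zpowers c : Set S) := by
      intro g hg
      have hmap : (Subgroup.zpowers c).map (MulAut.conj g).toMonoidHom = Subgroup.zpowers c := by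
        rw [MonoidHom.map_zpowers]
        rcases hg with hg | hg <;> simp [hg]
      refine Subgroup.mem_normalizer_iff.2 fun z => ⟨fun hz => hmap ▸ ⟨z, hz, rfl⟩, fun hz => ?_⟩
      rw [← hmap] at hz
      obtain ⟨z', hz', e'⟩ := hz
      exact (MulAut.conj g).injective e' ▸ hz'
    rintro g ((rfl | rfl) | hg)
    · exact key _ (Or.inl (by rw [hxc.eq, mul_inv_cancel_right]))
    · exact key _ (Or.inr hyc)
    · exact key _ (Or.inl (by rw [← hkc hg c, mul_inv_cancel_right]))
  have hle : commutator S ≤ Subgroup.zpowers c := by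
    rw [commutator_def, Subgroup.commutator_le]
    intro a _ b _
    let q := QuotientGroup.mk' (Subgroup.zpowers c)
    have hq1 : Commute (q x) (q y) := by
      rw [← commutatorElement_eq_one_iff_commute, ← map_commutatorElement]
      refine (QuotientGroup.eq_one_iff _).2 ?_
      rw [commutatorElement_def, show x * y * x⁻¹ * y⁻¹ = c by rw [hc]; group]
      exact Subgroup.mem_zpowers c
    have hcomm : ∀ a ∈ ({x, y} ∪ (f.ker : Set S)), ∀ b ∈ ({x, y} ∪ (f.ker : Set S)),
        Commute (q a) (q b) := by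
      rintro a ((rfl | rfl) | ha) b ((rfl | rfl) | hb)
      all_goals first
        | exact Commute.refl _
        | exact hq1
        | exact hq1.symm
        | exact Commute.map (hkc hb _) q
        | exact (Commute.map (hkc ha _) q).symm
    have hall : ∀ a b : S, Commute (q a) (q b) := fun a b => by
      refine Subgroup.closure_induction (p := fun a _ => Commute (q a) (q b)) (fun a ha => ?_)
        (by rw [map_one]; exact Commute.one_left _)
        (fun a a' _ _ h h' => by rw [map_mul]; exact h.mul_left h')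
        (fun a _ h => by rw [map_inv]; exact h.inv_left) (hgen a)
      refine Subgroup.closure_induction (p := fun b _ => Commute (q a) (q b)) (fun b hb => hcomm a ha b hb)
        (by rw [map_one]; exact Commute.one_right _)
        (fun b b' _ _ h h' => by rw [map_mul]; exact h.mul_right h')
        (fun b _ h => by rw [map_inv]; exact h.inv_right) (hgen b)
    refine (QuotientGroup.eq_one_iff _).1 ?_
    show q ⁅a, b⁆ = 1
    rw [map_commutatorElement, commutatorElement_eq_one_iff_commute]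
    exact hall a b
  refine ⟨Subgroup.isCyclic_of_le hle, fun d hd hfd => ?_⟩
  -- the powers of `c` in the kernel
  have hxh : x ^ (2 * h) = k ^ h := by
    have hcx : Commute y (x ^ h) := by
      rw [hsq]
      exact ((Commute.refl y).mul_right (Commute.refl y)).mul_right (hkc hk2 y)
    have e1 : y * x ^ h * y⁻¹ = x ^ h := by rw [hcx.eq, mul_inv_cancel_right]
    rw [← conj_pow, hrel, (show Commute x⁻¹ k from hkc hk1 x⁻¹).mul_pow, inv_pow,
      inv_mul_eq_iff_eq_mul] at e1
    rw [two_mul, pow_add, e1]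
  have hch : c ^ h = 1 := by
    rw [hck, (show Commute (x * x) k⁻¹ from hkc (f.ker.inv_mem hk1) _).mul_pow, ← pow_two,
      ← pow_mul, hxh, inv_pow, mul_inv_cancel]
  obtain ⟨i, rfl⟩ := Subgroup.mem_zpowers_iff.1 (hle hd)
  have hfx : orderOf (f x) = 2 * h := by
    rw [hx, MulEquiv.orderOf_eq, QuaternionGroup.orderOf_a_one]
  have e2 : (f x) ^ ((2 : ℤ) * i) = 1 := by
    rw [map_zpow, hck, map_mul, map_mul, map_inv, MonoidHom.mem_ker.1 hk1, inv_one, mul_one] at hfd
    rwa [zpow_mul, show (f x) ^ (2 : ℤ) = f x * f x by rw [zpow_two]]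
  rw [← orderOf_dvd_iff_zpow_eq_one, hfx] at e2
  push_cast at e2
  obtain ⟨j, rfl⟩ : (h : ℤ) ∣ i := Int.dvd_of_mul_dvd_mul_left two_ne_zero e2
  rw [zpow_mul, zpow_natCast, hch, one_zpow]

/-- `S` normalises `W` and only central elements of `S` fix a point of `W` moved by `S`. -/
def Regularish (S W : Subgroup G) : Prop :=
  (∀ s ∈ S, ∀ w ∈ W, s * w * s⁻¹ ∈ W) ∧
    ∀ x ∈ S, ∀ w ∈ W, x * w = w * x → (∃ s ∈ S, s * w ≠ w * s) → ∀ s ∈ S, s * x = x * s

/-- A 2-group with cyclic commutator subgroup acting faithfully on `W`, unless it centralises `W`. -/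
theorem commutator_of_regularish {S W : Subgroup G} (hS : IsPGroup 2 S) (hW : Odd (Nat.card W))
    (hna : NonComm S) (hr : Regularish S W) (hnt : ∃ w ∈ W, ∃ s ∈ S, s * w ≠ w * s) :
    IsCyclic (commutator S) ∧
      ∀ c ∈ commutator S, (∀ w ∈ W, (c : G) * w = w * c) → c = 1 := by
  classical
  suffices H : ∀ n, ∀ W : Subgroup G, Nat.card W = n → Odd (Nat.card W) → Regularish S W →
      (∃ w ∈ W, ∃ s ∈ S, s * w ≠ w * s) → IsCyclic (commutator S) ∧
      ∀ c ∈ commutator S, (∀ w ∈ W, (c : G) * w = w * c) → c = 1 from H _ W rfl hW hr hnt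
  intro n
  induction n using Nat.strong_induction_on with
  | _ n IH =>
  intro W hn hW hr hnt
  by_cases hmin : ∃ W' : Subgroup G, W' < W ∧ (∀ s ∈ S, ∀ w ∈ W', s * w * s⁻¹ ∈ W') ∧
      ∃ w ∈ W', ∃ s ∈ S, s * w ≠ w * s
  · obtain ⟨W', hlt, hinv, hnt'⟩ := hmin
    obtain ⟨h1, h2⟩ := IH _ (hn ▸ Set.Finite.card_lt_card (Set.toFinite _) hlt) W' rfl
      (hW.of_dvd_nat (Subgroup.card_dvd_of_le hlt.le))
      ⟨hinv, fun x hx w hw => hr.2 x hx w (hlt.le hw)⟩ hnt'
    exact ⟨h1, fun c hc hcw => h2 c hc fun w hw => hcw w (hlt.le hw)⟩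
  push Not at hmin
  obtain ⟨w₀, hw₀, s₀, hs₀, hne₀⟩ := hnt
  set F : Subgroup G := W ⊓ Subgroup.centralizer (S : Set G) with hF
  -- the action
  let φ : S →* MulAut W :=
    { toFun := fun s =>
        { toFun := fun w => ⟨(s : G) * w * (s : G)⁻¹, hr.1 s s.2 w w.2⟩
          invFun := fun w => ⟨(s : G)⁻¹ * w * (s : G), by simpa using hr.1 _ (inv_mem s.2) w w.2⟩
          left_inv := fun w => Subtype.ext (by group)
          right_inv := fun w => Subtype.ext (by group)
          map_mul' := fun a b => Subtype.ext (by simp [mul_assoc]) }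
      map_one' := MulEquiv.ext fun w => Subtype.ext (by simp)
      map_mul' := fun a b => MulEquiv.ext fun w => Subtype.ext (by simp [mul_assoc]) }
  have hφ : ∀ (s : S) (w : W), φ s w = w ↔ (s : G) * w = (w : G) * s := fun s w => by
    rw [Subtype.ext_iff]
    exact mul_inv_eq_iff_eq_mul
  have hcen : φ.ker ≤ Subgroup.center S := fun x hx => Subgroup.mem_center_iff.2 fun s =>
    Subtype.ext (hr.2 x x.2 w₀ hw₀ ((hφ x ⟨w₀, hw₀⟩).1 (by rw [MonoidHom.mem_ker.1 hx]; rfl))
      ⟨s₀, hs₀, hne₀⟩ s s.2)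
  -- fixed points lie in `F`
  have hfixF : ∀ s : S, φ s ≠ 1 → ∀ w : W, φ s w = w → (w : G) ∈ F := by
    intro s hs w hw
    refine ⟨w.2, Subgroup.mem_centralizer_iff.2 fun g hg => ?_⟩
    by_contra hne
    have hc := hr.2 s s.2 w w.2 ((hφ s w).1 hw) ⟨g, hg, hne⟩
    set W' : Subgroup G := W ⊓ Subgroup.centralizer {(s : G)} with hW'
    have hmem : ∀ {v : G}, v ∈ W → (s : G) * v = v * s → v ∈ W' := fun hv he =>
      ⟨hv, Subgroup.mem_centralizer_singleton_iff.2 he.symm⟩
    have hlt : W' < W := by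
      refine lt_of_le_of_ne inf_le_left fun e => hs (MulEquiv.ext fun v => ?_)
      have hv : (v : G) ∈ W' := e.symm ▸ v.2
      exact (hφ s v).2 (Subgroup.mem_centralizer_singleton_iff.1 hv.2).symm
    refine hne (hmin W' hlt (fun t ht v hv => ?_) w (hmem w.2 ((hφ s w).1 hw)) g hg)
    refine hmem (hr.1 t ht v hv.1) ?_
    have hv' := (Subgroup.mem_centralizer_singleton_iff.1 hv.2).symm
    calc (s : G) * (t * v * t⁻¹) = (s * t) * v * t⁻¹ := by group
      _ = t * (s * v) * t⁻¹ := by rw [← hc t ht]; group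
      _ = t * v * (s * t⁻¹) := by rw [hv']; group
      _ = t * v * t⁻¹ * s := by rw [← hc t⁻¹ (S.inv_mem ht)]; group
  haveI : Finite (MulAut W) := Finite.of_injective (fun e : MulAut W => (e : W → W))
    fun e e' h => MulEquiv.ext (congrFun h)
  have huni : ∀ a b : φ.range, a ≠ 1 → b ≠ 1 → a * a = 1 → b * b = 1 → a = b := by
    intro a b ha hb haa hbb
    by_contra hab
    -- the commuting pair
    obtain ⟨z, hz1, hzz, hzc⟩ : ∃ z : φ.range, z ≠ 1 ∧ z * z = 1 ∧ ∀ g, g * z = z * g := by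
      haveI : Fact (Nat.Prime 2) := ⟨Nat.prime_two⟩
      haveI : Nontrivial φ.range := ⟨⟨a, 1, ha⟩⟩
      have hR := hS.of_surjective φ.rangeRestrict φ.rangeRestrict_surjective
      haveI := hR.center_nontrivial
      obtain ⟨z, hz⟩ := exists_prime_orderOf_dvd_card' (G := Subgroup.center φ.range) 2 (by
        obtain ⟨m, hm, hm'⟩ := (hR.to_subgroup (Subgroup.center φ.range)).nontrivial_iff_card.1
          inferInstance
        rw [hm']; exact dvd_pow_self 2 hm.ne')
      rw [← Subgroup.orderOf_coe] at hz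
      exact ⟨z, TwoFusionB.ne_one_of_inv hz, TwoFusionB.sq_eq_one_of_inv hz,
        fun g => Subgroup.mem_center_iff.1 z.2 g⟩
    obtain ⟨d, hd1, hdz, hdd⟩ : ∃ d : φ.range, d ≠ 1 ∧ d ≠ z ∧ d * d = 1 := by
      by_cases haz : a = z
      · exact ⟨b, hb, fun e => hab (haz.trans e.symm), hbb⟩
      · exact ⟨a, ha, haz, haa⟩
    have hfix : ∀ e : φ.range, e ≠ 1 → ∀ w : W, (e : MulAut W) w = w → w ∈ F.subgroupOf W := by
      rintro ⟨_, s, rfl⟩ he w hw
      exact Subgroup.mem_subgroupOf.2 (hfixF s (fun e => he (Subtype.ext e)) w hw)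
    have hall := le_of_aut_four hW (α := (d : MulAut W)) (β := (z : MulAut W))
      (congrArg Subtype.val hdd) (congrArg Subtype.val hzz) (congrArg Subtype.val (hzc d))
      (hfix d hd1) (hfix z hz1)
      (hfix (d * z) fun e => hdz ((eq_inv_of_mul_eq_one_left e).trans (inv_eq_of_mul_eq_one_right hzz)))
      ⟨w₀, hw₀⟩
    exact hne₀ (Subgroup.mem_centralizer_iff.1 (Subgroup.mem_subgroupOf.1 hall).2 s₀ hs₀)
  obtain ⟨h1, h2⟩ := commutator_of_unique_involution φ.rangeRestrict φ.rangeRestrict_surjective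
    (hS.of_surjective φ.rangeRestrict φ.rangeRestrict_surjective)
    (by rwa [MonoidHom.ker_rangeRestrict])
    (by obtain ⟨x, hx, y, hy, hne⟩ := hna
        exact ⟨⟨x, hx⟩, ⟨y, hy⟩, fun e => hne (congrArg Subtype.val e)⟩) huni
  exact ⟨h1, fun c hc hcw => h2 c hc (Subtype.ext (MulEquiv.ext fun w => (hφ c w).2 (hcw w w.2)))⟩

/-- In a group with central Sylow intersections only central elements fix a moved point. -/
theorem regularish_of_ci (hci : CI G) {S : Sylow 2 G} {W : Subgroup G} (hW : Odd (Nat.card W))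
    (hn : ∀ s ∈ (S : Subgroup G), ∀ w ∈ W, s * w * s⁻¹ ∈ W) : Regularish (S : Subgroup G) W := by
  refine ⟨hn, fun x hx w hw hxw hmove => ?_⟩
  obtain ⟨g, hg, hne⟩ := hmove
  by_cases hwS : w • S = S
  · exfalso
    refine hne (mul_inv_eq_iff_eq_mul.1 (mul_inv_eq_one.1
      (eq_one_of_two_of_odd S.isPGroup' hW ?_ (W.mul_mem (hn g hg w hw) (W.inv_mem hw)))))
    have h1 : w * g⁻¹ * w⁻¹ ∈ (S : Subgroup G) := by
      have h2 : w * g⁻¹ * w⁻¹ ∈ ((w • S : Sylow 2 G) : Subgroup G) := by
        rw [Sylow.coe_subgroup_smul]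
        exact ⟨g⁻¹, inv_mem hg, by simp [MulAut.smul_def, mul_assoc]⟩
      rwa [hwS] at h2
    have h3 := mul_mem hg h1
    simpa [mul_assoc] using h3
  · exact hci S (w • S) (Ne.symm hwS) x hx (by
      rw [Sylow.coe_subgroup_smul]
      exact ⟨x, hx, by simp [MulAut.smul_def, ← hxw]⟩)

/-- With non-cyclic commutator subgroup every normalised subgroup of odd order is centralised. -/
theorem centralizes_of_not_cyclic (hci : CI G) {S : Sylow 2 G} (hna : NonComm (S : Subgroup G))
    (hS : ¬ IsCyclic (commutator (S : Subgroup G))) {W : Subgroup G} (hW : Odd (Nat.card W))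
    (hn : ∀ s ∈ (S : Subgroup G), ∀ w ∈ W, s * w * s⁻¹ ∈ W) :
    ∀ s ∈ (S : Subgroup G), ∀ w ∈ W, s * w = w * s := by
  by_contra h
  push Not at h
  obtain ⟨s, hs, w, hw, hne⟩ := h
  exact hS (commutator_of_regularish S.isPGroup' hW hna (regularish_of_ci hci hW hn)
    ⟨w, hw, s, hs, hne⟩).1

/-- With trivial odd core every normalised subgroup of odd order is centralised. -/
theorem centralizes_of_oddCore (hci : CI G) (hO : Cfsg.oddCore G = ⊥) {S : Sylow 2 G}
    (hna : NonComm (S : Subgroup G)) {W : Subgroup G} (hW : Odd (Nat.card W))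
    (hn : ∀ s ∈ (S : Subgroup G), ∀ w ∈ W, s * w * s⁻¹ ∈ W) :
    ∀ s ∈ (S : Subgroup G), ∀ w ∈ W, s * w = w * s := by
  haveI : Fact (Nat.Prime 2) := ⟨Nat.prime_two⟩
  by_contra h
  push Not at h
  obtain ⟨s, hs, w, hw, hne⟩ := h
  obtain ⟨hcyc, hinj⟩ := commutator_of_regularish S.isPGroup' hW hna (regularish_of_ci hci hW hn)
    ⟨w, hw, s, hs, hne⟩
  have hbot : commutator (S : Subgroup G) ≠ ⊥ := by
    obtain ⟨x, hx, y, hy, hxy⟩ := hna
    intro e
    have h1 : ⁅(⟨x, hx⟩ : (S : Subgroup G)), (⟨y, hy⟩ : (S : Subgroup G))⁆ = (1 : (S : Subgroup G)) := by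
      rw [← Subgroup.mem_bot, ← e]
      exact Subgroup.commutator_mem_commutator (Subgroup.mem_top _) (Subgroup.mem_top _)
    exact hxy (congrArg Subtype.val (commutatorElement_eq_one_iff_mul_comm.1 h1))
  obtain ⟨c, hc⟩ := exists_prime_orderOf_dvd_card' (G := commutator (S : Subgroup G)) 2 (by
    haveI := (Subgroup.nontrivial_iff_ne_bot _).2 hbot
    obtain ⟨m, hm, hm'⟩ := (S.isPGroup'.to_subgroup (commutator (S : Subgroup G))).nontrivial_iff_card.1
      inferInstance
    rw [hm']; exact dvd_pow_self 2 hm.ne')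
  rw [← Subgroup.orderOf_coe] at hc
  have hcen := S3184.result hci.to_stmt S _ hbot hcyc inferInstance _ c.2 hc
  refine TwoFusionB.ne_one_of_inv hc (hinj _ c.2 fun v _ => ?_)
  have h1 : (((c : (S : Subgroup G)) : G))⁻¹ * (v * (c : (S : Subgroup G)) * v⁻¹) = 1 := by
    rw [← Subgroup.mem_bot, ← hO]
    exact QuotientGroup.eq.1 (hcen v).symm
  exact (mul_inv_eq_iff_eq_mul.1 (inv_mul_eq_one.1 h1).symm).symm

end Cfsg.Agent.CISylow69
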