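import Cfsg.Agent.CISylow69.Assembly
import Cfsg.Agent.S0252
import Cfsg.Agent.PF14.Compose
import Cfsg.Agent.Lib.OddOrderGlue.Basic
import Cfsg.Agent.BGSigma.SmallRank
import Cfsg.Statements.S3181

/-!
The structure of groups with central Sylow 2-intersections, from Bender's structure theorem.
-/

set_option autoImplicit false
set_option linter.style.haveILetI false

namespace Cfsg.Agent.CISylow69

open Subgroup BenderCons37 Suz27
open scoped commutatorElement

universe u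

theorem eq_of_involutions {A : Type*} [Group A] [Finite A] [IsCyclic A] {x y : A}
    (hx : orderOf x = 2) (hy : orderOf y = 2) : x = y := by
  classical
  haveI := Fintype.ofFinite A
  by_contra hne
  have h := IsCyclic.card_pow_eq_one_le (α := A) (n := 2) two_pos
  have hsub : ({1, x, y} : Finset A) ⊆ Finset.univ.filter fun a => a ^ 2 = 1 := by
    intro a ha
    rw [Finset.mem_filter]
    refine ⟨Finset.mem_univ _, ?_⟩
    simp only [Finset.mem_insert, Finset.mem_singleton] at ha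
    rcases ha with rfl | rfl | rfl
    · exact one_pow 2
    · exact hx ▸ pow_orderOf_eq_one a
    · exact hy ▸ pow_orderOf_eq_one a
  have h3 : ({1, x, y} : Finset A).card = 3 := by
    rw [Finset.card_eq_three]
    exact ⟨1, x, y, (TwoFusionB.ne_one_of_inv hx).symm, (TwoFusionB.ne_one_of_inv hy).symm, hne, rfl⟩
  have := (Finset.card_le_card hsub).trans h
  omega

theorem pElementClosure_normal (G : Type*) [Group G] :
    (Cfsg.pElementClosure 2 (⊤ : Subgroup G)).Normal := by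
  refine ⟨fun x hx g => ?_⟩
  have : Cfsg.pElementClosure 2 (⊤ : Subgroup G) ≤
      (Cfsg.pElementClosure 2 (⊤ : Subgroup G)).comap (MulAut.conj g).toMonoidHom :=
    (Subgroup.closure_le _).2 fun y hy => Subgroup.subset_closure
      ⟨Subgroup.mem_top _, hy.2.imp fun k hk => (TwoFusionB.orderOf_conj_eq g y).trans hk⟩
  exact this hx

theorem sylow_le_pElementClosure {G : Type*} [Group G] (S : Sylow 2 G) :
    (S : Subgroup G) ≤ Cfsg.pElementClosure 2 (⊤ : Subgroup G) := by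
  haveI : Fact (Nat.Prime 2) := ⟨Nat.prime_two⟩
  intro x hx
  obtain ⟨k, hk⟩ := IsPGroup.iff_orderOf.1 S.isPGroup' ⟨x, hx⟩
  exact Subgroup.subset_closure ⟨Subgroup.mem_top _, k, (Subgroup.orderOf_mk x hx).symm.trans hk⟩

/-- A commutator subgroup with an image containing two involutions is not cyclic. -/
theorem not_isCyclic_commutator {G K : Type*} [Group G] [Finite G] [Group K] [Finite K] (f : G →* K)
    (R : Subgroup G) (hd : SylData (R.map f)) (hn : NonComm (R.map f)) :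
    ¬ IsCyclic (commutator R) := by
  intro hc
  obtain ⟨x, hx, y, hy, hx2, hy2, hne⟩ := hd.two
  have e : ((commutator R).map (f.comp R.subtype)) = ⁅R.map f, R.map f⁆ := by
    rw [← Subgroup.map_map, _root_.commutator_def, Subgroup.map_commutator, ← MonoidHom.range_eq_map,
      Subgroup.range_subtype, Subgroup.map_commutator]
  have hx' := hd.inv_mem_commutator hn x hx (TwoFusionB.sq_eq_one_of_inv hx2)
  have hy' := hd.inv_mem_commutator hn y hy (TwoFusionB.sq_eq_one_of_inv hy2)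
  haveI : IsCyclic ↥⁅R.map f, R.map f⁆ := e ▸ isCyclic_of_surjective
    ((f.comp R.subtype).subgroupMap (commutator R))
    ((f.comp R.subtype).subgroupMap_surjective (commutator R))
  exact hne (congrArg Subtype.val (eq_of_involutions (x := (⟨x, hx'⟩ : ↥⁅R.map f, R.map f⁆))
    (y := ⟨y, hy'⟩) (by rw [Subgroup.orderOf_mk, hx2]) (by rw [Subgroup.orderOf_mk, hy2])))

theorem center_map_congr {X Y : Type*} [Group X] [Group Y] (e : X ≃* Y)
    (h : Subgroup.center X ≠ ⊥) : Subgroup.center Y ≠ ⊥ := by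
  intro hb
  refine h ((Subgroup.eq_bot_iff_forall _).2 fun z hz => e.injective ?_)
  rw [map_one, ← Subgroup.mem_bot, ← hb, Subgroup.mem_center_iff]
  intro g
  obtain ⟨g, rfl⟩ := e.surjective g
  rw [← map_mul, ← map_mul, Subgroup.mem_center_iff.1 hz g]

theorem isPerfect_congr {X Y : Type*} [Group X] [Group Y] (e : X ≃* Y) (h : commutator X = ⊤) :
    Group.IsPerfect Y :=
  ⟨by rw [_root_.commutator_def, ← Subgroup.map_top_of_surjective e.toMonoidHom e.surjective,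
    ← Subgroup.map_commutator, ← _root_.commutator_def, h]⟩

/-- The form of S3181, from Bender's structure theorem. -/
theorem s3181_of (hsp : BenderSplit.{u}) {G : Type u} [Group G] [Finite G]
    (hCI : ∀ S T : Sylow 2 G, S ≠ T → ∃ U : Sylow 2 G,
      (S : Subgroup G) ⊓ (T : Subgroup G) ≤ (Subgroup.center ↥(U : Subgroup G)).map (U : Subgroup G).subtype) :
    (Group.IsSolvable G ∧ Cfsg.PLengthLE 2 1 G) ∨
    (∀ S : Sylow 2 G, IsMulCommutative ↥(S : Subgroup G)) ∨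
    (∃ (N M : Subgroup G) (_ : N.Normal) (_ : M.Normal) (_ : (N.subgroupOf M).Normal), N < M ∧ Odd (Nat.card ↥N) ∧ Odd M.index ∧
      ∃ A L : Subgroup (↥M ⧸ N.subgroupOf M), IsMulCommutative ↥A ∧ IsPGroup 2 ↥A ∧
        Nonempty (↥L ≃* Matrix.SpecialLinearGroup (Fin 2) (ZMod 5)) ∧ (∀ a ∈ A, ∀ l ∈ L, a * l = l * a) ∧ A ⊔ L = ⊤) ∨
    (∃ (M : Subgroup G), M.Normal ∧ Odd M.index ∧ ∃ A L : Subgroup G, IsMulCommutative ↥A ∧ IsPGroup 2 ↥A ∧
      ((Cfsg.IsInternalDirectProduct A L M ∧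
          ((∃ (m : ℕ) (F : Type) (_ : Field F) (_ : Fintype F), 1 ≤ m ∧ Fintype.card F = 2 ^ (2 * m + 1) ∧
              Nonempty (↥L ≃* ↥(Cfsg.Lie.Sz F (2 ^ (m + 1))))) ∨
            (∃ (n : ℕ) (F : Type) (_ : Field F) (_ : Fintype F), 2 ≤ n ∧ Fintype.card F = 4 ^ n ∧
              (Nonempty (↥L ≃* Cfsg.PSU 3 F (2 ^ n)) ∨ Nonempty (↥L ≃* ↥(Cfsg.SU 3 F (2 ^ n))))))) ∨
        (A ≤ M ∧ L ≤ M ∧ (∀ a ∈ A, ∀ l ∈ L, a * l = l * a) ∧ A ⊔ L = M ∧ Group.IsPerfect ↥L ∧
          Subgroup.center ↥L ≠ ⊥ ∧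
          ∃ (F : Type) (_ : Field F) (_ : Fintype F), Fintype.card F = 8 ∧
            Nonempty (↥L ⧸ Subgroup.center ↥L ≃* ↥(Cfsg.Lie.Sz F 4))))) := by
  classical
  haveI : Fact (Nat.Prime 2) := ⟨Nat.prime_two⟩
  by_cases hab : ∀ S : Sylow 2 G, IsMulCommutative ↥(S : Subgroup G)
  · exact Or.inr (Or.inl hab)
  push Not at hab
  obtain ⟨S₀, hS₀⟩ := hab
  have hna : NA G := NA.of_one (S := S₀) (by
    by_contra h
    refine hS₀ ⟨⟨fun a b => Subtype.ext (by_contra fun hne => h ⟨a, a.2, b, b.2, hne⟩)⟩⟩)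
  have hci : CI G := CI.of_stmt hCI
  set M := Cfsg.pElementClosure 2 (⊤ : Subgroup G) with hMdef
  haveI hMn : M.Normal := pElementClosure_normal G
  have hMidx : Odd M.index := by
    obtain ⟨S⟩ : Nonempty (Sylow 2 G) := inferInstance
    refine Odd.of_dvd_nat ?_ (Subgroup.index_dvd_of_le (sylow_le_pElementClosure S))
    rw [← Nat.not_even_iff_odd, even_iff_two_dvd]
    exact S.not_dvd_index
  have hgenM : TwoGen ↥M := twoGen_pElementClosure G
  have hciM : CI ↥M := hci.subgroup M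
  have hnaM : NA ↥M := hna.subgroup (sylow_le_pElementClosure S₀)
  set π := QuotientGroup.mk' (Cfsg.oddCore ↥M) with hπ
  have hπs : Function.Surjective π := QuotientGroup.mk'_surjective _
  have hπk : Odd (Nat.card π.ker) := by rw [hπ, QuotientGroup.ker_mk']; exact oddCore_card_odd
  have hciH := hciM.map π hπs hπk
  have hnaH := hnaM.map π hπs hπk
  have hgenH := hgenM.map π hπs
  by_cases hone : ∀ P Q : Sylow 2 (↥M ⧸ Cfsg.oddCore ↥M), P = Q
  · -- one Sylow subgroup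
    left
    obtain ⟨P⟩ : Nonempty (Sylow 2 (↥M ⧸ Cfsg.oddCore ↥M)) := inferInstance
    have htop : (P : Subgroup (↥M ⧸ Cfsg.oddCore ↥M)) = ⊤ := hgenH.le fun x hx => by
      obtain ⟨k, hk⟩ := hx
      obtain ⟨Q, hQ⟩ := (IsPGroup.of_card (n := k) (by rw [Nat.card_zpowers, hk]) :
        IsPGroup 2 ↥(Subgroup.zpowers x)).exists_le_sylow
      exact (hone Q P) ▸ hQ (Subgroup.mem_zpowers x)
    have hp : IsPGroup 2 (↥M ⧸ Cfsg.oddCore ↥M) :=
      (htop ▸ P.isPGroup' : IsPGroup 2 ↥(⊤ : Subgroup (↥M ⧸ Cfsg.oddCore ↥M))).of_equiv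
        Subgroup.topEquiv
    refine ⟨?_, ?_⟩
    · haveI : Group.IsSolvable ↥(Cfsg.oddCore ↥M) := PF14.feitThompson _ oddCore_card_odd
      haveI : Group.IsNilpotent (↥M ⧸ Cfsg.oddCore ↥M) := hp.isNilpotent
      haveI : Group.IsSolvable ↥M := Group.isSolvable_of_ker_le_range (Cfsg.oddCore ↥M).subtype π
        (by rw [hπ, QuotientGroup.ker_mk', Subgroup.range_subtype])
      exact OddOrderGlue.isSolvable_of_odd_quotient PF14.feitThompson M hMidx
    · rw [BGSigma.plengthLE_one_iff]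
      have hle : M ≤ Cfsg.pPrimePCore 2 G := by
        intro x hx
        refine Thompson.le_pCore ((hMn).map (QuotientGroup.mk' (Cfsg.pPrimeCore 2 G))
          (QuotientGroup.mk'_surjective _)) ?_ ⟨x, hx, rfl⟩
        rintro ⟨_, y, hy, rfl⟩
        obtain ⟨k, hk⟩ := hp ((⟨y, hy⟩ : ↥M) : ↥M ⧸ Cfsg.oddCore ↥M)
        refine ⟨k, Subtype.ext ?_⟩
        rw [SubmonoidClass.coe_pow, OneMemClass.coe_one, ← map_pow]
        refine (QuotientGroup.eq_one_iff _).2 ?_
        have h1 : (⟨y, hy⟩ : ↥M) ^ 2 ^ k ∈ Cfsg.oddCore ↥M := by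
          rw [← QuotientGroup.eq_one_iff]; exact hk
        have h2 : ((⟨y, hy⟩ ^ 2 ^ k : ↥M) : G) ∈ (Cfsg.pPrimeCore 2 ↥M).map M.subtype := ⟨_, h1, rfl⟩
        rw [Thompson.map_pPrimeCore_normal_eq] at h2
        exact h2.2
      intro h2
      exact Nat.not_even_iff_odd.2 hMidx
        (even_iff_two_dvd.2 (h2.trans (Subgroup.index_dvd_of_le hle)))
  push Not at hone
  obtain ⟨P₁, Q₁, hPQ⟩ := hone
  have hO : Cfsg.oddCore (↥M ⧸ Cfsg.oddCore ↥M) = ⊥ := BenderCons37.oddCore_quotient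
  have hu : Uniform (↥M ⧸ Cfsg.oddCore ↥M) :=
    uniform hsp _ _ (Nat.lt_succ_self _) hciH hnaH hO
  set A := Cfsg.pCore 2 (↥M ⧸ Cfsg.oddCore ↥M) with hA
  haveI : A.Normal := by rw [hA]; infer_instance
  have hAc : A ≤ Subgroup.center _ := pCore_le_center hciH hgenH hPQ
  set q := QuotientGroup.mk' A with hq
  have hqs : Function.Surjective q := QuotientGroup.mk'_surjective _
  have hA2 : IsPGroup 2 A := Thompson.isPGroup_pCore
  have hOK : Cfsg.oddCore ((↥M ⧸ Cfsg.oddCore ↥M) ⧸ A) = ⊥ := oddCore_quotient_central A hA2 hAc hO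
  have hgenK : TwoGen ((↥M ⧸ Cfsg.oddCore ↥M) ⧸ A) := hgenH.map q hqs
  have hTI : ∀ P P' : Sylow 2 ((↥M ⧸ Cfsg.oddCore ↥M) ⧸ A), P ≠ P' →
      (P : Subgroup ((↥M ⧸ Cfsg.oddCore ↥M) ⧸ A)) ⊓ P' = ⊥ := by
    intro P P' hPP
    obtain ⟨R, hR⟩ := exists_sylow_map q hqs P
    obtain ⟨R', hR'⟩ := exists_sylow_map q hqs P'
    refine (Subgroup.eq_bot_iff_forall _).2 fun k hk => ?_
    obtain ⟨hk1, hk2⟩ := Subgroup.mem_inf.1 hk
    rw [hR] at hk1
    rw [hR'] at hk2
    obtain ⟨r, hr, rfl⟩ := hk1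
    obtain ⟨r', hr', e⟩ := hk2
    have hrR' : r ∈ (R' : Subgroup (↥M ⧸ Cfsg.oddCore ↥M)) := by
      have h1 : r'⁻¹ * r ∈ A := QuotientGroup.eq.1 e
      simpa using mul_mem hr' (Thompson.pCore_le_sylow R' h1)
    refine (QuotientGroup.eq_one_iff r).2 ?_
    rw [hA, ← hu R R' fun e' => hPP (Sylow.ext (by rw [hR, hR', e']))]
    exact ⟨hr, hrR'⟩
  have hmanyK : ∀ P : Sylow 2 ((↥M ⧸ Cfsg.oddCore ↥M) ⧸ A), ∃ T, T ≠ P := by
    intro P
    by_contra hall
    push Not at hall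
    refine hPQ (sylow_eq_of_le fun x hx => ?_)
    have h1 : q x ∈ ((Q₁.mapSurjective hqs : Sylow 2 _) : Subgroup _) := by
      rw [hall (Q₁.mapSurjective hqs), ← hall (P₁.mapSurjective hqs)]
      exact ⟨x, hx, rfl⟩
    obtain ⟨y, hy, e⟩ := h1
    have h2 : y⁻¹ * x ∈ A := QuotientGroup.eq.1 e
    simpa using mul_mem hy (Thompson.pCore_le_sylow Q₁ h2)
  have hdata := fun P => data_of_ti hsp hOK hTI P (hmanyK P)
  let eE : ↥(Cfsg.pElementClosure 2 (⊤ : Subgroup ((↥M ⧸ Cfsg.oddCore ↥M) ⧸ A))) ≃*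
      (↥M ⧸ Cfsg.oddCore ↥M) ⧸ A := (MulEquiv.subgroupCongr hgenK).trans Subgroup.topEquiv
  obtain ⟨P₀⟩ : Nonempty (Sylow 2 ((↥M ⧸ Cfsg.oddCore ↥M) ⧸ A)) := inferInstance
  obtain ⟨-, ⟨hsimpE, hperfE⟩, htype⟩ := hdata P₀
  have hperfK : commutator ((↥M ⧸ Cfsg.oddCore ↥M) ⧸ A) = ⊤ :=
    (isPerfect_congr eE hperfE).commutator_eq_top
  have hsupH : A ⊔ commutator (↥M ⧸ Cfsg.oddCore ↥M) = ⊤ :=
    pCore_sup_commutator q hqs (by rw [hq, QuotientGroup.ker_mk']; exact hAc) hperfK hgenH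
  rcases htype with ⟨hc, F, _, _, n, hn, hF, ⟨e⟩⟩ | htype
  · -- two-dimensional linear groups
    have hsq : ∀ P : Sylow 2 ((↥M ⧸ Cfsg.oddCore ↥M) ⧸ A), ∀ x ∈ (P : Subgroup ((↥M ⧸ Cfsg.oddCore ↥M) ⧸ A)), x * x = 1 :=
      fun P => (hdata P).1.comm_of_sq.resolve_right fun h => hc (NA.of_one h P₀)
    have hmult := Schur.hasSchurMultiplier_congr (e.symm.trans eE) (psl_multiplier hn hF)
    have hbound := card_ker_inf_commutator_dvd hmult q hqs (by rw [hq, QuotientGroup.ker_mk']; exact hAc)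
    by_cases hn2 : n = 2
    swap
    · exfalso
      rw [if_neg hn2, Nat.dvd_one, Subgroup.card_eq_one] at hbound
      obtain ⟨S⟩ : Nonempty (Sylow 2 (↥M ⧸ Cfsg.oddCore ↥M)) := inferInstance
      obtain ⟨x, hx, y, hy, hne⟩ := hnaH S
      refine hne (commutatorElement_eq_one_iff_mul_comm.1 ?_)
      rw [← Subgroup.mem_bot, ← hbound, Subgroup.mem_inf, MonoidHom.mem_ker]
      refine ⟨?_, Subgroup.commutator_mem_commutator (Subgroup.mem_top x) (Subgroup.mem_top y)⟩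
      rw [map_commutatorElement, commutatorElement_eq_one_iff_mul_comm]
      have hall := hsq (S.mapSurjective hqs)
      have h1 : q x ∈ ((S.mapSurjective hqs : Sylow 2 _) : Subgroup _) := ⟨x, hx, rfl⟩
      have h2 : q y ∈ ((S.mapSurjective hqs : Sylow 2 _) : Subgroup _) := ⟨y, hy, rfl⟩
      calc q x * q y = (q y * q y) * (q x * q y) * (q x * q x) := by
            rw [hall _ h1, hall _ h2, one_mul, mul_one]
        _ = q y * ((q y * q x) * (q y * q x)) * q x := by group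
        _ = q y * q x := by rw [hall _ (mul_mem h2 h1), mul_one]
    subst hn2
    rw [if_pos rfl] at hbound
    obtain ⟨eA⟩ := S0252.result (F := F) (hF.trans rfl)
    obtain ⟨eL⟩ := sl25_case hnaH hAc hsupH q hqs (by rw [hq, QuotientGroup.ker_mk'])
      hperfK (fun S => ⟨hsq (S.mapSurjective hqs), (hdata (S.mapSurjective hqs)).1⟩)
      ((eE.symm.trans e).trans eA) hbound
    set N := Cfsg.oddCore G ⊓ M with hN
    haveI hNn : N.Normal := by rw [hN]; infer_instance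
    have hNM : N.subgroupOf M = Cfsg.oddCore ↥M := by
      refine Subgroup.map_injective M.subtype_injective ?_
      rw [Subgroup.map_subgroupOf_eq_of_le inf_le_right]
      show Cfsg.oddCore G ⊓ M = (Cfsg.pPrimeCore 2 ↥M).map M.subtype
      rw [Thompson.map_pPrimeCore_normal_eq, inf_comm]
    refine Or.inr (Or.inr (Or.inl ⟨N, M, hNn, hMn, inferInstance, ?_, ?_, hMidx, ?_⟩))
    · refine lt_of_le_of_ne inf_le_right fun e' => ?_
      obtain ⟨x, hx, y, hy, hne⟩ := hna S₀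
      have hodd : Odd (Nat.card M) := e' ▸ oddCore_card_odd.of_dvd_nat (Subgroup.card_dvd_of_le inf_le_left)
      refine hne ?_
      rw [eq_one_of_two_of_odd S₀.isPGroup' hodd hx (sylow_le_pElementClosure S₀ hx), one_mul, mul_one]
    · exact oddCore_card_odd.of_dvd_nat (Subgroup.card_dvd_of_le inf_le_left)
    let φ : ↥M ⧸ N.subgroupOf M ≃* ↥M ⧸ Cfsg.oddCore ↥M := QuotientGroup.quotientMulEquivOfEq hNM
    refine ⟨A.map φ.symm.toMonoidHom,
      (commutator (↥M ⧸ Cfsg.oddCore ↥M)).map φ.symm.toMonoidHom, ?_, hA2.map _,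
      ⟨((commutator _).equivMapOfInjective _ φ.symm.injective).symm.trans eL⟩, ?_, ?_⟩
    · refine ⟨⟨?_⟩⟩
      rintro ⟨_, a, ha, rfl⟩ ⟨_, b, hb, rfl⟩
      refine Subtype.ext ?_
      show φ.symm a * φ.symm b = φ.symm b * φ.symm a
      rw [← map_mul, ← map_mul, Subgroup.mem_center_iff.1 (hAc hb) a]
    · rintro _ ⟨a, ha, rfl⟩ _ ⟨l, -, rfl⟩
      show φ.symm a * φ.symm l = φ.symm l * φ.symm a
      rw [← map_mul, ← map_mul, Subgroup.mem_center_iff.1 (hAc ha) l]
    · rw [← Subgroup.map_sup, hsupH, Subgroup.map_top_of_surjective _ φ.symm.surjective]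
  -- the non-abelian types
  have hnK : NA ((↥M ⧸ Cfsg.oddCore ↥M) ⧸ A) := NA.of_one (S := P₀) (by
    rcases htype with ⟨h, -⟩ | ⟨h, -⟩ <;> exact h)
  set ρ := q.comp π with hρ
  have hρs : Function.Surjective ρ := hqs.comp hπs
  have hNc : Cfsg.oddCore ↥M ≤ Subgroup.center ↥M := by
    intro w hw
    refine Subgroup.mem_center_iff.2 fun g => ?_
    have h := hgenM.le (X := Subgroup.centralizer {w}) fun x hx => ?_
    · exact Subgroup.mem_centralizer_singleton_iff.1 (h.ge (Subgroup.mem_top g))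
    obtain ⟨k, hk⟩ := hx
    obtain ⟨R, hR⟩ := (IsPGroup.of_card (n := k) (by rw [Nat.card_zpowers, hk]) :
      IsPGroup 2 ↥(Subgroup.zpowers x)).exists_le_sylow
    exact Subgroup.mem_centralizer_singleton_iff.2 (centralizes_of_not_cyclic hciM (hnaM R)
      (not_isCyclic_commutator ρ (R : Subgroup ↥M) (hdata (R.mapSurjective hρs)).1
        (hnK (R.mapSurjective hρs))) (W := Cfsg.oddCore ↥M) oddCore_card_odd
      (fun s _ w hw => (inferInstance : (Cfsg.oddCore ↥M).Normal).conj_mem w hw s)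
      x (hR (Subgroup.mem_zpowers x)) w hw)
  have hρc : ρ.ker ≤ Subgroup.center ↥M := by
    intro y hy
    have hyA : π y ∈ A := (QuotientGroup.eq_one_iff (π y)).1 hy
    refine mem_center_of_odd hNc oddCore_card_odd ?_ fun g => ?_
    · obtain ⟨a, ha⟩ := IsPGroup.iff_orderOf.1 hA2 ⟨π y, hyA⟩
      rw [Subgroup.orderOf_mk] at ha
      refine ⟨a, (QuotientGroup.eq_one_iff _).1 ?_⟩
      show π (y ^ 2 ^ a) = 1
      rw [map_pow, ← ha, pow_orderOf_eq_one]
    · refine (QuotientGroup.eq_one_iff _).1 ?_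
      show π (y⁻¹ * (g * y * g⁻¹)) = 1
      rw [map_mul, map_mul, map_mul, map_inv, map_inv, Subgroup.mem_center_iff.1 (hAc hyA) (π g),
        mul_inv_cancel_right, inv_mul_cancel]
  obtain ⟨R₁, hR₁⟩ := exists_sylow_map π hπs P₁
  obtain ⟨R₂, hR₂⟩ := exists_sylow_map π hπs Q₁
  have hRR : R₁ ≠ R₂ := fun e => hPQ (Sylow.ext (by rw [hR₁, hR₂, e]))
  set B := Cfsg.pCore 2 ↥M with hB
  have hBc : B ≤ Subgroup.center ↥M := pCore_le_center hciM hgenM hRR
  have hBker : B ≤ ρ.ker := by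
    intro b hb
    obtain ⟨T, hT⟩ := hmanyK P₀
    obtain ⟨S, hS⟩ := exists_sylow_map ρ hρs P₀
    obtain ⟨S', hS'⟩ := exists_sylow_map ρ hρs T
    rw [MonoidHom.mem_ker, ← Subgroup.mem_bot, ← hTI P₀ T (Ne.symm hT)]
    exact ⟨hS ▸ ⟨b, Thompson.pCore_le_sylow S hb, rfl⟩, hS' ▸ ⟨b, Thompson.pCore_le_sylow S' hb, rfl⟩⟩
  set L := commutator ↥M with hL
  have hLperf : commutator ↥L = ⊤ := commutator_perfect ρ hρs hρc hperfK
  have hsup : B ⊔ L = ⊤ := pCore_sup_commutator ρ hρs hρc hperfK hgenM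
  set σ := ρ.comp L.subtype with hσ
  have hσs : Function.Surjective σ := fun k => by
    obtain ⟨l, hl, e⟩ : k ∈ L.map ρ := by
      rw [hL, map_commutator_eq_top ρ hρs hperfK]; exact Subgroup.mem_top k
    exact ⟨⟨l, hl⟩, e⟩
  have hσc : σ.ker ≤ Subgroup.center ↥L := fun x hx => Subgroup.mem_center_iff.2 fun g =>
    Subtype.ext (Subgroup.mem_center_iff.1 (hρc (hx : ρ (x : ↥M) = 1)) g)
  have hcenL : Subgroup.center ↥L ≤ σ.ker := by
    intro x hx
    haveI : IsSimpleGroup ((↥M ⧸ Cfsg.oddCore ↥M) ⧸ A) := by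
      haveI := hsimpE
      haveI : Nontrivial ((↥M ⧸ Cfsg.oddCore ↥M) ⧸ A) := eE.symm.toEquiv.nontrivial
      exact IsSimpleGroup.isSimpleGroup_of_surjective eE.toMonoidHom eE.surjective
    have hmem : σ x ∈ Subgroup.center ((↥M ⧸ Cfsg.oddCore ↥M) ⧸ A) :=
      Subgroup.mem_center_iff.2 fun k => by
        obtain ⟨l, rfl⟩ := hσs k
        rw [← map_mul, ← map_mul, Subgroup.mem_center_iff.1 hx l]
    rcases (inferInstance : (Subgroup.center ((↥M ⧸ Cfsg.oddCore ↥M) ⧸ A)).Normal).eq_bot_or_eq_top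
      with h | h
    · rw [h, Subgroup.mem_bot] at hmem
      exact hmem
    · exfalso
      obtain ⟨a, -, b, -, hne⟩ := hnK P₀
      exact hne (Subgroup.mem_center_iff.1 (h ▸ Subgroup.mem_top b) a)
  -- transfer to subgroups of `G`
  let eL : ↥L ≃* ↥(L.map M.subtype) := L.equivMapOfInjective _ M.subtype_injective
  refine Or.inr (Or.inr (Or.inr ⟨M, hMn, hMidx, B.map M.subtype, L.map M.subtype, ?_,
    (Thompson.isPGroup_pCore : IsPGroup 2 B).map _, ?_⟩))
  · refine ⟨⟨?_⟩⟩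
    rintro ⟨_, a, ha, rfl⟩ ⟨_, b, hb, rfl⟩
    refine Subtype.ext ?_
    exact congrArg M.subtype (Subgroup.mem_center_iff.1 (hBc hb) a)
  have hle1 : B.map M.subtype ≤ M := Subgroup.map_subtype_le B
  have hle2 : L.map M.subtype ≤ M := Subgroup.map_subtype_le L
  have hcomm : ∀ a ∈ B.map M.subtype, ∀ l ∈ L.map M.subtype, a * l = l * a := by
    rintro _ ⟨a, ha, rfl⟩ _ ⟨l, -, rfl⟩
    exact congrArg Subtype.val (Subgroup.mem_center_iff.1 (hBc ha) l).symm
  have hjoin : B.map M.subtype ⊔ L.map M.subtype = M := by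
    rw [← Subgroup.map_sup, hsup, ← MonoidHom.range_eq_map, Subgroup.range_subtype]
  have hdir : (∀ x ∈ B, x ∈ L → x = 1) →
      Cfsg.IsInternalDirectProduct (B.map M.subtype) (L.map M.subtype) M := fun h =>
    ⟨hle1, hle2, hcomm, by
      rw [← Subgroup.map_inf _ _ _ M.subtype_injective, (Subgroup.eq_bot_iff_forall (B ⊓ L)).2
        (fun x hx => h x (Subgroup.mem_inf.1 hx).1 (Subgroup.mem_inf.1 hx).2), Subgroup.map_bot], hjoin⟩
  have hodd_inf : ∀ d, Odd d → Nat.card ↥(σ.ker ⊓ commutator ↥L) ∣ d → ∀ x ∈ B, x ∈ L → x = 1 := by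
    intro d hd hdvd x hxB hxL
    have hm : (⟨x, hxL⟩ : L) ∈ σ.ker ⊓ commutator ↥L :=
      Subgroup.mem_inf.2 ⟨hBker hxB, by rw [hLperf]; exact Subgroup.mem_top _⟩
    have h1 : Odd (orderOf x) := by
      rw [← Subgroup.orderOf_mk x hxL]
      exact hd.of_dvd_nat ((Subgroup.orderOf_dvd_natCard _ hm).trans hdvd)
    obtain ⟨k, hk⟩ := IsPGroup.iff_orderOf.1 (Thompson.isPGroup_pCore : IsPGroup 2 B) ⟨x, hxB⟩
    rw [Subgroup.orderOf_mk] at hk
    exact orderOf_eq_one_iff.1 (Nat.eq_one_of_dvd_coprimes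
      ((Nat.coprime_two_left.2 h1).pow_left k) hk.dvd dvd_rfl)
  rcases htype with ⟨-, F, iF, iT, m, hm, hF, -, -, ⟨e⟩⟩ | ⟨-, F, iF, iT, n, hn, hF, ⟨e⟩⟩
  · let σ' := ((eE.symm.trans e).toMonoidHom).comp σ
    by_cases hZ : Subgroup.center ↥L = ⊥
    · have hinj : Function.Injective σ := by
        rw [← MonoidHom.ker_eq_bot_iff, eq_bot_iff, ← hZ]; exact hσc
      refine Or.inl ⟨hdir fun x hxB hxL => ?_, Or.inl ⟨m, F, iF, iT, hm, hF,
        ⟨eL.symm.trans ((MulEquiv.ofBijective σ ⟨hinj, hσs⟩).trans (eE.symm.trans e))⟩⟩⟩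
      exact congrArg Subtype.val (hinj (a₁ := (⟨x, hxL⟩ : L)) (a₂ := 1)
        ((hBker hxB : ρ x = 1).trans (map_one σ).symm))
    have hm1 : m = 1 := by
      by_contra hne
      refine hZ ?_
      have hdvd := card_ker_inf_commutator_dvd
        (Schur.hasSchurMultiplier_congr (e.symm.trans eE) (sz_multiplier (by omega) hF)) σ hσs hσc
      rw [hLperf, inf_top_eq, Nat.dvd_one, Subgroup.card_eq_one] at hdvd
      exact eq_bot_iff.2 (hdvd ▸ hcenL)
    subst hm1
    refine Or.inr ⟨hle1, hle2, hcomm, hjoin, isPerfect_congr eL hLperf, center_map_congr eL hZ,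
      F, iF, iT, by rw [hF]; rfl, ⟨?_⟩⟩
    have hk : Subgroup.center ↥L = σ.ker := le_antisymm hcenL hσc
    refine (QuotientGroup.congr (Subgroup.center ↥L) (Subgroup.center ↥(L.map M.subtype)) eL ?_).symm.trans
      ((QuotientGroup.quotientMulEquivOfEq hk).trans
        ((QuotientGroup.quotientKerEquivOfSurjective σ hσs).trans (eE.symm.trans e)))
    ext x
    constructor
    · rintro ⟨z, hz, rfl⟩
      refine Subgroup.mem_center_iff.2 fun g => ?_
      obtain ⟨g, rfl⟩ := eL.surjective g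
      show eL g * eL z = eL z * eL g
      rw [← map_mul, ← map_mul, Subgroup.mem_center_iff.1 hz g]
    · intro hx
      obtain ⟨z, rfl⟩ := eL.surjective x
      refine ⟨z, Subgroup.mem_center_iff.2 fun g => eL.injective ?_, rfl⟩
      rw [map_mul, map_mul]
      exact Subgroup.mem_center_iff.1 hx (eL g)
  · obtain ⟨d, hd, hmult⟩ := psu_multiplier hn hF
    have hdvd := card_ker_inf_commutator_dvd
      (Schur.hasSchurMultiplier_congr (e.symm.trans eE) hmult) σ hσs hσc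
    refine Or.inl ⟨hdir (hodd_inf d hd hdvd), Or.inr ⟨n, F, iF, iT, hn, ?_, ?_⟩⟩
    · rw [hF, ← pow_mul, show (4 : ℕ) = 2 ^ 2 by norm_num, ← pow_mul, mul_comm n 2]
    rcases psu_cover hn hF hLperf ((eE.symm.trans e).toMonoidHom.comp σ)
      ((eE.symm.trans e).surjective.comp hσs) (fun x hx => hσc (by
        rw [MonoidHom.mem_ker] at hx ⊢
        exact (eE.symm.trans e).injective (hx.trans (map_one _).symm))) with h | h
    · obtain ⟨f⟩ := h
      exact Or.inl ⟨eL.symm.trans f⟩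
    · obtain ⟨f⟩ := h
      exact Or.inr ⟨eL.symm.trans f⟩

end Cfsg.Agent.CISylow69
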