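import Cfsg.Agent.CISylow69.Local

/-!
With trivial odd core, non-abelian Sylow 2-subgroups with central intersections meet exactly in
`O_2`, given Bender's structure theorem.
-/

set_option autoImplicit false
set_option linter.style.haveILetI false

namespace Cfsg.Agent.CISylow69

open Subgroup BenderCons37 Suz27
open scoped commutatorElement

universe u

variable {H : Type u} [Group H] [Finite H]

omit [Finite H] in
theorem isPGroup_inf (S T : Sylow 2 H) : IsPGroup 2 ↥((S : Subgroup H) ⊓ (T : Subgroup H)) :=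
  S.isPGroup'.to_le inf_le_left

omit [Finite H] in
theorem pCore_le_inf (S T : Sylow 2 H) : Cfsg.pCore 2 H ≤ (S : Subgroup H) ⊓ (T : Subgroup H) :=
  le_inf (Thompson.pCore_le_sylow S) (Thompson.pCore_le_sylow T)

omit [Finite H] in
/-- An intersection other than `O_2` is not central. -/
theorem centralizer_ne_top {S T : Sylow 2 H}
    (h : (S : Subgroup H) ⊓ (T : Subgroup H) ≠ Cfsg.pCore 2 H) :
    Subgroup.centralizer (((S : Subgroup H) ⊓ (T : Subgroup H) : Subgroup H) : Set H) ≠ ⊤ := by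
  intro htop
  refine h (le_antisymm (Thompson.le_pCore ⟨fun d hd g => ?_⟩ (isPGroup_inf S T)) (pCore_le_inf S T))
  have hg : g ∈ Subgroup.centralizer (((S : Subgroup H) ⊓ (T : Subgroup H) : Subgroup H) : Set H) := by
    rw [htop]; exact Subgroup.mem_top g
  rwa [← Subgroup.mem_centralizer_iff.1 hg d hd, mul_inv_cancel_right]

/-- Intersections sharing an element outside `O_2` are equal. -/
theorem inf_eq_of_shared (hb : UniformBelow.{u} (Nat.card H)) (hci : CI H) (hna : NA H)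
    (hO : Cfsg.oddCore H = ⊥) {S T S' T' : Sylow 2 H} (hne : S ≠ T) (hne' : S' ≠ T') {e : H}
    (he : e ∈ (S : Subgroup H) ⊓ (T : Subgroup H)) (he' : e ∈ (S' : Subgroup H) ⊓ (T' : Subgroup H))
    (hA : e ∉ Cfsg.pCore 2 H) :
    (S : Subgroup H) ⊓ (T : Subgroup H) = (S' : Subgroup H) ⊓ (T' : Subgroup H) := by
  have hle : ∀ {S T : Sylow 2 H}, S ≠ T → e ∈ (S : Subgroup H) ⊓ (T : Subgroup H) →
      (S : Subgroup H) ≤ Subgroup.centralizer {e} := fun {S T} hne he s hs =>
    Subgroup.mem_centralizer_singleton_iff.2 (hci S T hne e he.1 he.2 s hs)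
  have hC : Subgroup.centralizer ({e} : Set H) ≠ ⊤ := by
    intro htop
    refine hA (Thompson.le_pCore ⟨fun d hd g => ?_⟩ (S.isPGroup'.to_le (Subgroup.zpowers_le.2 he.1))
      (Subgroup.mem_zpowers e))
    have hg : g ∈ Subgroup.centralizer ({e} : Set H) := by rw [htop]; exact Subgroup.mem_top g
    obtain ⟨i, rfl⟩ := Subgroup.mem_zpowers_iff.1 hd
    have hc : Commute g e := Subgroup.mem_centralizer_singleton_iff.1 hg
    rw [(hc.zpow_right i).eq, mul_inv_cancel_right]
    exact Subgroup.zpow_mem _ (Subgroup.mem_zpowers e) i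
  exact inf_eq_of_proper hb hci hna hO hC (hle hne he) (hle hne.symm ⟨he.2, he.1⟩) (hle hne' he')
    (hle hne'.symm ⟨he'.2, he'.1⟩) hne hne'

/-- Outside `O_2` the intersection is determined by one of the two Sylow subgroups. -/
theorem inf_unique (hsp : BenderSplit.{u}) (hb : UniformBelow.{u} (Nat.card H)) (hci : CI H)
    (hna : NA H) (hO : Cfsg.oddCore H = ⊥) {S T T' : Sylow 2 H} (hne : S ≠ T) (hne' : S ≠ T')
    (hD : (S : Subgroup H) ⊓ (T : Subgroup H) ≠ Cfsg.pCore 2 H)
    (hD' : (S : Subgroup H) ⊓ (T' : Subgroup H) ≠ Cfsg.pCore 2 H) :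
    (S : Subgroup H) ⊓ (T : Subgroup H) = (S : Subgroup H) ⊓ (T' : Subgroup H) := by
  classical
  haveI : Fact (Nat.Prime 2) := ⟨Nat.prime_two⟩
  set A₀ := Cfsg.pCore 2 H with hA₀
  obtain ⟨hfix, hkind⟩ := centralizer_inf hsp hb hci hna hO hne (centralizer_ne_top hD)
  obtain ⟨hfix', hkind'⟩ := centralizer_inf hsp hb hci hna hO hne' (centralizer_ne_top hD')
  set D := (S : Subgroup H) ⊓ (T : Subgroup H) with hDdef
  set D' := (S : Subgroup H) ⊓ (T' : Subgroup H) with hD'def
  have hAD : A₀ ≤ D := pCore_le_inf S T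
  have hAD' : A₀ ≤ D' := pCore_le_inf S T'
  have hcD : ∀ d ∈ D, ∀ s ∈ (S : Subgroup H), s * d = d * s := fun d hd s hs =>
    hci S T hne d hd.1 hd.2 s hs
  have hcD' : ∀ d ∈ D', ∀ s ∈ (S : Subgroup H), s * d = d * s := fun d hd s hs =>
    hci S T' hne' d hd.1 hd.2 s hs
  by_contra hne''
  have hinf : ∀ e ∈ D, e ∈ D' → e ∈ A₀ := fun e he he' => by_contra fun hA =>
    hne'' (inf_eq_of_shared hb hci hna hO hne hne' he he' hA)
  -- both of the second kind
  rcases hkind with hkind | ⟨-, hZ, hDc⟩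
  · exact hD' (le_antisymm (fun d hd => hinf d (hkind d hd.1 (hcD' d hd)) hd) hAD')
  rcases hkind' with hkind' | ⟨-, hZ', -⟩
  · exact hD (le_antisymm (fun d hd => hinf d hd (hkind' d hd.1 (hcD d hd))) hAD)
  -- the action on the centre
  set Z := (S : Subgroup H) ⊓ Subgroup.centralizer ((S : Subgroup H) : Set H) with hZdef
  set N := Subgroup.normalizer ((S : Subgroup H) : Set H) with hNdef
  have hmemZ : ∀ z, z ∈ Z ↔ z ∈ (S : Subgroup H) ∧ ∀ s ∈ (S : Subgroup H), s * z = z * s :=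
    fun z => ⟨fun h => ⟨h.1, fun s hs => Subgroup.mem_centralizer_iff.1 h.2 s hs⟩,
      fun h => ⟨h.1, Subgroup.mem_centralizer_iff.2 h.2⟩⟩
  have hnS : ∀ n ∈ N, ∀ s ∈ (S : Subgroup H), n * s * n⁻¹ ∈ (S : Subgroup H) := fun n hn s hs =>
    (Subgroup.mem_normalizer_iff.1 hn s).1 hs
  have hnZ : ∀ n ∈ N, ∀ z ∈ Z, n * z * n⁻¹ ∈ Z := by
    intro n hn z hz
    rw [hmemZ] at hz ⊢
    refine ⟨hnS n hn z hz.1, fun s hs => ?_⟩
    have hs' : n⁻¹ * s * n ∈ (S : Subgroup H) := by simpa using hnS n⁻¹ (N.inv_mem hn) s hs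
    calc s * (n * z * n⁻¹) = n * ((n⁻¹ * s * n) * z) * n⁻¹ := by group
      _ = n * (z * (n⁻¹ * s * n)) * n⁻¹ := by rw [hz.2 _ hs']
      _ = _ := by group
  letI : CommGroup Z := { (inferInstance : Group Z) with
    mul_comm := fun a b => Subtype.ext (((hmemZ _).1 b.2).2 a a.2.1) }
  let α : N →* MulAut Z :=
    { toFun := fun n =>
        { toFun := fun z => ⟨(n : H) * z * (n : H)⁻¹, hnZ n n.2 z z.2⟩
          invFun := fun z => ⟨(n : H)⁻¹ * z * (n : H), by simpa using hnZ _ (N.inv_mem n.2) z z.2⟩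
          left_inv := fun z => Subtype.ext (by group)
          right_inv := fun z => Subtype.ext (by group)
          map_mul' := fun a b => Subtype.ext (by simp [mul_assoc]) }
      map_one' := MulEquiv.ext fun z => Subtype.ext (by simp)
      map_mul' := fun a b => MulEquiv.ext fun z => Subtype.ext (by simp [mul_assoc]) }
  haveI : Finite (MulAut Z) := Finite.of_injective (fun e : MulAut Z => (e : Z → Z))
    fun e e' h => MulEquiv.ext (congrFun h)
  let gens : Set N := {g : N | (g : H) ∈ Subgroup.centralizer (D : Set H) ∨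
    (g : H) ∈ Subgroup.centralizer (D' : Set H)}
  set R := (Subgroup.closure gens).map α with hR
  have hodd : Odd (Nat.card R) := by
    refine (?_ : Odd (Nat.card α.range)).of_dvd_nat (Subgroup.card_dvd_of_le (Subgroup.map_le_range α _))
    have hSN : (S : Subgroup H) ≤ N := Subgroup.le_normalizer
    have hker : ((S.subtype hSN : Sylow 2 ↥N) : Subgroup ↥N) ≤ α.ker := by
      intro s hs
      refine MulEquiv.ext fun z => Subtype.ext ?_
      show (s : H) * z * (s : H)⁻¹ = z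
      rw [((hmemZ _).1 z.2).2 s hs, mul_inv_cancel_right]
    rw [← Subgroup.index_ker]
    refine Odd.of_dvd_nat ?_ (Subgroup.index_dvd_of_le hker)
    rw [← Nat.not_even_iff_odd, even_iff_two_dvd]
    exact (S.subtype hSN).not_dvd_index
  -- the set `A₀ S'` in the centre
  set M : Subgroup Z := (A₀ ⊔ ⁅(S : Subgroup H), (S : Subgroup H)⁆).subgroupOf Z with hM
  have hgenM : ∀ g ∈ Subgroup.closure gens, ∀ z ∈ Z,
      (g : H) * z * (g : H)⁻¹ * z⁻¹ ∈ ⁅(S : Subgroup H), (S : Subgroup H)⁆ := by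
    have hconj : ∀ g ∈ N, ∀ w ∈ ⁅(S : Subgroup H), (S : Subgroup H)⁆,
        g * w * g⁻¹ ∈ ⁅(S : Subgroup H), (S : Subgroup H)⁆ := by
      intro g hg w hw
      have hle : (S : Subgroup H).map (MulAut.conj g).toMonoidHom ≤ (S : Subgroup H) := by
        rintro _ ⟨s, hs, rfl⟩; exact hnS g hg s hs
      have h1 : g * w * g⁻¹ ∈ (⁅(S : Subgroup H), (S : Subgroup H)⁆).map (MulAut.conj g).toMonoidHom :=
        ⟨w, hw, rfl⟩
      rw [Subgroup.map_commutator] at h1
      exact Subgroup.commutator_mono hle hle h1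
    intro g hg
    induction hg using Subgroup.closure_induction with
    | mem g hg =>
      intro z hz
      obtain ⟨E, hE, c, hc, rfl, hcE⟩ : ∃ d, (d : H) ∈ (S : Subgroup H) ∧ ∃ c ∈ ⁅(S : Subgroup H),
          (S : Subgroup H)⁆, z = d * c ∧ (g : H) * d = d * g := by
        rcases hg with hg | hg
        · obtain ⟨d, hd, c, hc, e⟩ := hZ z hz.1 ((hmemZ z).1 hz).2
          exact ⟨d, hd.1, c, hc, e, (Subgroup.mem_centralizer_iff.1 hg d hd).symm⟩
        · obtain ⟨d, hd, c, hc, e⟩ := hZ' z hz.1 ((hmemZ z).1 hz).2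
          exact ⟨d, hd.1, c, hc, e, (Subgroup.mem_centralizer_iff.1 hg d hd).symm⟩
      have hcc : (g : H) * c * (g : H)⁻¹ * c⁻¹ ∈ ⁅(S : Subgroup H), (S : Subgroup H)⁆ :=
        mul_mem (hconj g g.2 c hc) (inv_mem hc)
      have e : (g : H) * (E * c) * (g : H)⁻¹ * (E * c)⁻¹ =
          E * ((g : H) * c * (g : H)⁻¹ * c⁻¹) * E⁻¹ := by
        calc (g : H) * (E * c) * (g : H)⁻¹ * (E * c)⁻¹
            = ((g : H) * E) * c * (g : H)⁻¹ * c⁻¹ * E⁻¹ := by group
          _ = _ := by rw [hcE]; group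
      rw [e]
      exact hconj E (Subgroup.le_normalizer hE) _ hcc
    | one => intro z _; simp
    | mul g h _ _ ih ih' =>
      intro z hz
      have h1 := mul_mem (hconj g g.2 _ (ih' z hz)) (ih z hz)
      have e : ((g * h : N) : H) * z * ((g * h : N) : H)⁻¹ * z⁻¹ =
          (g : H) * ((h : H) * z * (h : H)⁻¹ * z⁻¹) * (g : H)⁻¹ * ((g : H) * z * (g : H)⁻¹ * z⁻¹) := by
        push_cast; group
      rw [e]; exact h1
    | inv g _ ih =>
      intro z hz
      have hz' : (g : H)⁻¹ * z * (g : H) ∈ Z := by simpa using hnZ _ (N.inv_mem g.2) z hz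
      have h1 := inv_mem (ih _ hz')
      have e : ((g⁻¹ : N) : H) * z * ((g⁻¹ : N) : H)⁻¹ * z⁻¹ =
          ((g : H) * ((g : H)⁻¹ * z * (g : H)) * (g : H)⁻¹ * ((g : H)⁻¹ * z * (g : H))⁻¹)⁻¹ := by
        push_cast; group
      rw [e]; exact h1
  have hZM : ∀ z : Z, z ∈ M := by
    intro z
    haveI : Fintype R := Fintype.ofFinite R
    set n : Z := ∏ r : R, (r : MulAut Z) z with hn
    have hinv : ∀ r₀ : R, (r₀ : MulAut Z) n = n := fun r₀ => by
      rw [hn, map_prod]
      exact Fintype.prod_equiv (Equiv.mulLeft r₀) _ _ fun r => rfl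
    have hfixed : ∀ g ∈ N, (g ∈ Subgroup.centralizer (D : Set H) ∨
        g ∈ Subgroup.centralizer (D' : Set H)) → g * (n : H) * g⁻¹ = n := by
      intro g hg h
      exact congrArg Subtype.val (hinv ⟨α ⟨g, hg⟩, ⟨g, hg⟩, Subgroup.subset_closure h, rfl⟩)
    have hnorm : ∀ g : H, (∀ s ∈ (S : Subgroup H), g * s * g⁻¹ ∈ (S : Subgroup H)) → g ∈ N :=
      fun g hg => by
        have hmap : (S : Subgroup H).map (MulAut.conj g).toMonoidHom = (S : Subgroup H) := by
          refine Subgroup.eq_of_le_of_card_ge ?_ (le_of_eq ?_)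
          · rintro _ ⟨y, hy, rfl⟩; exact hg y hy
          · rw [Subgroup.card_map_of_injective (MulAut.conj g).injective]
        refine Subgroup.mem_normalizer_iff.2 fun y => ⟨hg y, fun hy => ?_⟩
        rw [← hmap] at hy
        obtain ⟨y', hy', e⟩ := hy
        exact (MulAut.conj g).injective e ▸ hy'
    have hnA : (n : H) ∈ A₀ := hinf _
      (hfix _ n.2.1 ((hmemZ _).1 n.2).2 fun g hg hgS => hfixed g (hnorm g hgS) (Or.inl hg))
      (hfix' _ n.2.1 ((hmemZ _).1 n.2).2 fun g hg hgS => hfixed g (hnorm g hgS) (Or.inr hg))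
    have hprod : n * (z ^ Nat.card R)⁻¹ ∈ M := by
      have e : n * (z ^ Nat.card R)⁻¹ = ∏ r : R, ((r : MulAut Z) z * z⁻¹) := by
        rw [Finset.prod_mul_distrib, Finset.prod_const, Finset.card_univ, ← Nat.card_eq_fintype_card,
          inv_pow, hn]
      rw [e]
      refine Subgroup.prod_mem M fun r _ => Subgroup.mem_subgroupOf.2 (Subgroup.mem_sup_right ?_)
      obtain ⟨g, hg, e'⟩ := r.2
      rw [← e']
      exact hgenM g hg z z.2
    have hzk : z ^ Nat.card R ∈ M := by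
      have h1 : n ∈ M := Subgroup.mem_subgroupOf.2 (Subgroup.mem_sup_left hnA)
      have h2 := mul_mem (inv_mem hprod) h1
      simpa using h2
    obtain ⟨k, hk⟩ := IsPGroup.iff_orderOf.1 S.isPGroup' ⟨(z : H), z.2.1⟩
    rw [Subgroup.orderOf_mk, Subgroup.orderOf_coe] at hk
    obtain ⟨j, hj⟩ := exists_pow_eq_self_of_coprime
      (show (Nat.card R).Coprime (orderOf z) by
        rw [hk]; exact (Nat.coprime_two_right.2 hodd).pow_right k)
    exact hj ▸ M.pow_mem hzk j
  refine hD (le_antisymm (fun d hd => ?_) hAD)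
  have hdM := Subgroup.mem_subgroupOf.1 (hZM ⟨d, (hmemZ d).2 ⟨hd.1, hcD d hd⟩⟩)
  haveI : A₀.Normal := by rw [hA₀]; infer_instance
  obtain ⟨a, ha, c, hc, hac⟩ := Subgroup.mem_sup_of_normal_left.1 hdM
  have hcD'' : c ∈ D := by
    have e : c = a⁻¹ * d := by rw [show d = a * c from hac.symm, inv_mul_cancel_left]
    rw [e]; exact mul_mem (inv_mem (hAD ha)) hd
  have h1 : c = 1 := by rw [← Subgroup.mem_bot, ← hDc]; exact ⟨hcD'', hc⟩
  rw [show d = a * c from hac.symm, h1, mul_one]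
  exact ha

/-- Two distinct Sylow 2-subgroups meet exactly in `O_2`, given the same below. -/
theorem uniform_step (hsp : BenderSplit.{u}) (hb : UniformBelow.{u} (Nat.card H)) (hci : CI H)
    (hna : NA H) (hO : Cfsg.oddCore H = ⊥) : Uniform H := by
  classical
  haveI : Fact (Nat.Prime 2) := ⟨Nat.prime_two⟩
  intro S T hne
  set A₀ := Cfsg.pCore 2 H with hA₀
  haveI : A₀.Normal := by rw [hA₀]; infer_instance
  by_contra hD
  set D := (S : Subgroup H) ⊓ (T : Subgroup H) with hDdef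
  have hother : ∀ R : Sylow 2 H, ∃ R' : Sylow 2 H, R ≠ R' := fun R => by
    by_cases h : R = S
    · exact ⟨T, h ▸ hne⟩
    · exact ⟨S, h⟩
  -- `A₀` is central
  have hAc : A₀ ≤ Subgroup.center H := by
    by_contra hnc
    have hC : Subgroup.centralizer (A₀ : Set H) ≠ ⊤ := fun htop => hnc fun a ha =>
      Subgroup.mem_center_iff.2 fun g => by
        have hg : g ∈ Subgroup.centralizer (A₀ : Set H) := by rw [htop]; exact Subgroup.mem_top g
        exact (Subgroup.mem_centralizer_iff.1 hg a ha).symm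
    have hle : ∀ R : Sylow 2 H, (R : Subgroup H) ≤ Subgroup.centralizer (A₀ : Set H) := fun R r hr => by
      obtain ⟨R', hR'⟩ := hother R
      exact Subgroup.mem_centralizer_iff.2 fun a ha => (hci R R' hR' a (Thompson.pCore_le_sylow R ha)
        (Thompson.pCore_le_sylow R' ha) r hr).symm
    refine hD (le_antisymm ?_ (pCore_le_inf S T))
    rw [hA₀, Thompson.pCore_eq_iInf_sylow]
    refine le_iInf fun R => ?_
    obtain ⟨R', hR'⟩ := hother R
    exact (inf_eq_of_proper hb hci hna hO hC (hle S) (hle T) (hle R) (hle R') hne hR').le.trans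
      inf_le_left
  obtain ⟨e, heD, heA⟩ : ∃ e ∈ D, e ∉ A₀ := by
    by_contra hall
    push Not at hall
    exact hD (le_antisymm hall (pCore_le_inf S T))
  set N := Subgroup.normalizer (D : Set H) with hNdef
  have hcen : Subgroup.centralizer (D : Set H) ≤ N := by
    intro g hg
    refine Subgroup.mem_normalizer_iff.2 fun d => ⟨fun hd => ?_, fun hd => ?_⟩
    · rwa [← Subgroup.mem_centralizer_iff.1 hg d hd, mul_inv_cancel_right]
    · have h1 := Subgroup.mem_centralizer_iff.1 hg _ hd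
      rw [inv_mul_cancel_right] at h1
      have h2 := mul_left_cancel h1
      rw [h2]
      exact hd
  have hSN : (S : Subgroup H) ≤ N := fun s hs => hcen (Subgroup.mem_centralizer_iff.2 fun d hd =>
    (hci S T hne d hd.1 hd.2 s hs).symm)
  have hTN : (T : Subgroup H) ≤ N := fun s hs => hcen (Subgroup.mem_centralizer_iff.2 fun d hd =>
    (hci T S hne.symm d hd.2 hd.1 s hs).symm)
  have hconjD : ∀ g : H, ((g • S : Sylow 2 H) : Subgroup H) ⊓ ((g • T : Sylow 2 H) : Subgroup H) =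
      D.map (MulAut.conj g).toMonoidHom := by
    intro g
    ext x
    rw [Subgroup.mem_inf, mem_smul_sylow, mem_smul_sylow]
    refine ⟨fun h => ⟨_, h, by simp [mul_assoc]⟩, ?_⟩
    rintro ⟨d, hd, rfl⟩
    have hd' : d ∈ (S : Subgroup H) ∧ d ∈ (T : Subgroup H) := Subgroup.mem_inf.1 hd
    simpa [mul_assoc] using hd'
  have hmemN : ∀ g : H, D.map (MulAut.conj g).toMonoidHom = D → g ∈ N := fun g hg => by
    refine Subgroup.mem_normalizer_iff.2 fun y => ⟨fun hy => hg.le ⟨y, hy, rfl⟩, fun hy => ?_⟩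
    rw [← hg] at hy
    obtain ⟨y', hy', e'⟩ := hy
    exact (MulAut.conj g).injective e' ▸ hy'
  have hne_smul : ∀ g : H, g • S ≠ g • T := fun g h => hne (smul_left_cancel g h)
  have hD_smul : ∀ g : H, ((g • S : Sylow 2 H) : Subgroup H) ⊓ ((g • T : Sylow 2 H) : Subgroup H) ≠ A₀ := by
    intro g h
    rw [hconjD] at h
    refine heA ?_
    have h1 : g * e * g⁻¹ ∈ A₀ := h.le ⟨e, heD, rfl⟩
    have h2 := (inferInstance : A₀.Normal).conj_mem _ h1 g⁻¹
    simpa [mul_assoc] using h2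
  -- control
  have hctl : ∀ m x, x ∈ (S : Subgroup H) → x ∈ ((m • S : Sylow 2 H) : Subgroup H) → x ∉ A₀ →
      m ∈ N := by
    intro m x hx hxm hxA
    refine hmemN m ?_
    rw [← hconjD]
    by_cases hmS : m • S = S
    · have hu := inf_unique hsp hb hci hna hO hne
        (fun h => hne_smul m (hmS.trans h)) hD (by have := hD_smul m; rwa [hmS] at this)
      rw [hmS]; exact hu.symm
    · have hxA' : (S : Subgroup H) ⊓ ((m • S : Sylow 2 H) : Subgroup H) ≠ A₀ := fun h =>
        hxA (h.le ⟨hx, hxm⟩)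
      have h1 : D = (S : Subgroup H) ⊓ ((m • S : Sylow 2 H) : Subgroup H) :=
        inf_unique hsp hb hci hna hO hne (Ne.symm hmS) hD hxA'
      have h2 := inf_unique hsp hb hci hna hO hmS (hne_smul m) (by rw [inf_comm]; exact hxA')
        (hD_smul m)
      rw [← h2, inf_comm, ← h1]
  -- the normaliser is proper
  have hNtop : N ≠ ⊤ := fun htop => hD (le_antisymm (Thompson.le_pCore ⟨fun d hd g =>
    (Subgroup.mem_normalizer_iff.1 (htop.symm ▸ Subgroup.mem_top g : g ∈ N) d).1 hd⟩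
    (isPGroup_inf S T)) (pCore_le_inf S T))
  set q := QuotientGroup.mk' A₀ with hq
  have hqs : Function.Surjective q := QuotientGroup.mk'_surjective _
  have hAN : A₀ ≤ N := ((pCore_le_inf S T).trans inf_le_left).trans hSN
  have hback : ∀ y : H, q y ∈ N.map q → y ∈ N := by
    rintro y ⟨y', hy', e'⟩
    have h1 : y'⁻¹ * y ∈ A₀ := QuotientGroup.eq.1 e'
    simpa using mul_mem hy' (hAN h1)
  have hO' : Cfsg.oddCore (H ⧸ A₀) = ⊥ :=
    oddCore_quotient_central A₀ (by rw [hA₀]; exact Thompson.isPGroup_pCore) hAc hO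
  have hse : Cfsg.IsStronglyEmbedded (N.map q) := by
    rw [Involution.stronglyEmbedded_iff]
    refine ⟨fun htop => hNtop ((Subgroup.eq_top_iff' N).2 fun y => hback y (htop ▸ Subgroup.mem_top _)),
      ?_, fun g' t ht ht2 hgt => ?_⟩
    · obtain ⟨i, hi⟩ := IsPGroup.iff_orderOf.1 S.isPGroup' ⟨e, heD.1⟩
      rw [Subgroup.orderOf_mk] at hi
      obtain ⟨j, -, hj⟩ := (Nat.dvd_prime_pow Nat.prime_two).1 (hi ▸ orderOf_map_dvd q e)
      have hj0 : j ≠ 0 := fun h => by
        rw [h, pow_zero, orderOf_eq_one_iff] at hj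
        exact heA ((QuotientGroup.eq_one_iff e).1 hj)
      rw [even_iff_two_dvd]
      refine (dvd_pow_self 2 hj0).trans (hj ▸ ?_)
      exact Subgroup.orderOf_dvd_natCard _ ⟨e, hSN heD.1, rfl⟩
    obtain ⟨g, rfl⟩ := hqs g'
    obtain ⟨y, hy, rfl⟩ := ht
    obtain ⟨a, b, hb, hab⟩ := Nat.exists_eq_two_pow_mul_odd (orderOf_pos y).ne'
    set x := y ^ b with hx
    have hx2 : x ^ 2 ^ a = 1 := by rw [hx, ← pow_mul, mul_comm, ← hab, pow_orderOf_eq_one]
    have hqx : q x = q y := by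
      rw [hx, map_pow, ← pow_mod_orderOf, ht2, Nat.odd_iff.1 hb, pow_one]
    have hxN : x ∈ N := N.pow_mem hy b
    have hxA : x ∉ A₀ := fun h => by
      have : q y = 1 := hqx ▸ (QuotientGroup.eq_one_iff x).2 h
      rw [this, orderOf_one] at ht2
      omega
    have hgx : g * x * g⁻¹ ∈ N := hback _ (by rw [map_mul, map_mul, hqx, map_inv]; exact hgt)
    -- the Sylow subgroups of `N`
    have hinS : ∀ z ∈ N, z ^ 2 ^ a = 1 → ∃ k ∈ N, k⁻¹ * z * k ∈ (S : Subgroup H) := by
      intro z hz hz2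
      have hP : IsPGroup 2 ↥(Subgroup.zpowers (⟨z, hz⟩ : N)) := fun w => ⟨a, by
        obtain ⟨i, hi⟩ := Subgroup.mem_zpowers_iff.1 w.2
        refine Subtype.ext ?_
        rw [SubmonoidClass.coe_pow, OneMemClass.coe_one, ← hi, ← zpow_natCast, ← zpow_mul, mul_comm,
          zpow_mul, zpow_natCast, show (⟨z, hz⟩ : N) ^ 2 ^ a = 1 from Subtype.ext hz2, one_zpow]⟩
      obtain ⟨R, hR⟩ := hP.exists_le_sylow
      obtain ⟨k, hk⟩ := exists_sylow_conj (S.subtype hSN) R
      exact ⟨k, k.2, (hk ⟨z, hz⟩).1 (hR (Subgroup.mem_zpowers _))⟩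
    obtain ⟨k, hk, hkx⟩ := hinS x hxN hx2
    obtain ⟨k', hk', hkx'⟩ := hinS _ hgx (by rw [conj_pow, hx2, mul_one, mul_inv_cancel])
    have hm := hctl (k⁻¹ * g⁻¹ * k') (k⁻¹ * x * k) hkx
      (mem_smul_sylow.2 (by
        rw [show (k⁻¹ * g⁻¹ * k')⁻¹ * (k⁻¹ * x * k) * (k⁻¹ * g⁻¹ * k') =
          k'⁻¹ * (g * x * g⁻¹) * k' by group]
        exact hkx'))
      (fun h => hxA (by
        have h2 := (inferInstance : A₀.Normal).conj_mem _ h k
        simpa [mul_assoc] using h2))
    refine ⟨g, ?_, rfl⟩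
    have h3 := N.inv_mem (N.mul_mem (N.mul_mem hk hm) (N.inv_mem hk'))
    simpa [mul_assoc] using h3
  obtain ⟨P, hPN, hNP, -⟩ := data_of_stronglyEmbedded hsp hse hO'
  have himg : ∀ R : Sylow 2 H, (R : Subgroup H) ≤ N → R.mapSurjective hqs = P := by
    intro R hR
    obtain ⟨X, hX⟩ := ((R.mapSurjective hqs).isPGroup'.to_sup_of_normal_right' P.isPGroup'
      ((Subgroup.map_mono hR).trans hNP)).exists_le_sylow
    exact (sylow_eq_of_le (le_sup_left.trans hX) : R.mapSurjective hqs = X).trans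
      (sylow_eq_of_le (le_sup_right.trans hX) : P = X).symm
  refine hne (sylow_eq_of_le fun s hs => ?_)
  have h1 : q s ∈ ((T.mapSurjective hqs : Sylow 2 _) : Subgroup (H ⧸ A₀)) := by
    rw [himg T hTN, ← himg S hSN]; exact ⟨s, hs, rfl⟩
  obtain ⟨t, ht, e'⟩ := h1
  have h2 : t⁻¹ * s ∈ A₀ := QuotientGroup.eq.1 e'
  simpa using mul_mem ht (Thompson.pCore_le_sylow T h2)

/-- Two distinct Sylow 2-subgroups meet exactly in `O_2`. -/
theorem uniform (hsp : BenderSplit.{u}) (n : ℕ) : UniformBelow.{u} n := by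
  induction n with
  | zero => intro K _ _ h; omega
  | succ n ih =>
    intro K _ _ h hci hna hO
    rcases (Nat.lt_succ_iff.1 h).lt_or_eq with h' | h'
    · exact ih K h' hci hna hO
    · exact uniform_step hsp (h' ▸ ih) hci hna hO

end Cfsg.Agent.CISylow69
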